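import Mathlib

/-!
Camina groups with a transitive abelian group of operators: basic facts and the centralizer bound.
-/

set_option autoImplicit false
set_option linter.unusedSectionVars false

namespace Cfsg.Agent.H10.Camina

open scoped commutatorElement

variable {Γ : Type*} [Group Γ] {s : ℕ}

/-- `P` is an `s`-group normal in `Γ`, `D = ⁅P,P⁆` contains the `s`th powers, `Γ` acts on `P/D` as an
abelian group transitive on the nontrivial elements, and every coset of `D` outside `D` is a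
`P`-class. -/
structure Hyp (s : ℕ) {Γ : Type*} [Group Γ] (P : Subgroup Γ) : Prop where
  normal : P.Normal
  pgroup : IsPGroup s P
  exp : ∀ x ∈ P, x ^ s ∈ ⁅P, P⁆
  comm : ∀ a b : Γ, ∀ x ∈ P, ⁅a, b⁆ * x * ⁅a, b⁆⁻¹ * x⁻¹ ∈ ⁅P, P⁆
  trans : ∀ x ∈ P, x ∉ ⁅P, P⁆ → ∀ y ∈ P, y ∉ ⁅P, P⁆ → ∃ n, n * x * n⁻¹ * y⁻¹ ∈ ⁅P, P⁆
  cam : ∀ x ∈ P, x ∉ ⁅P, P⁆ → ∀ d ∈ ⁅P, P⁆, ∃ u ∈ P, u * x * u⁻¹ = d * x

theorem commutator_le_self (P : Subgroup Γ) : ⁅P, P⁆ ≤ P :=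
  Subgroup.commutator_le.2 fun a ha b hb =>
    P.mul_mem (P.mul_mem (P.mul_mem ha hb) (P.inv_mem ha)) (P.inv_mem hb)

theorem Hyp.map {P : Subgroup Γ} (h : Hyp s P) {Γ' : Type*} [Group Γ'] (φ : Γ →* Γ')
    (hφ : Function.Surjective φ) : Hyp s (P.map φ) := by
  have hD : ⁅P.map φ, P.map φ⁆ = ⁅P, P⁆.map φ := (Subgroup.map_commutator P P φ).symm
  constructor
  · exact h.normal.map φ hφ
  · exact h.pgroup.map φ
  · rintro _ ⟨x, hx, rfl⟩
    rw [hD, ← map_pow]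
    exact ⟨_, h.exp x hx, rfl⟩
  · rintro a b _ ⟨x, hx, rfl⟩
    obtain ⟨a, rfl⟩ := hφ a
    obtain ⟨b, rfl⟩ := hφ b
    rw [hD, ← map_commutatorElement]
    exact ⟨_, h.comm a b x hx, by simp⟩
  · rintro _ ⟨x, hx, rfl⟩ hxD _ ⟨y, hy, rfl⟩ hyD
    rw [hD] at hxD hyD ⊢
    obtain ⟨n, hn⟩ := h.trans x hx (fun hc => hxD ⟨x, hc, rfl⟩) y hy fun hc => hyD ⟨y, hc, rfl⟩
    exact ⟨φ n, _, hn, by simp⟩
  · rintro _ ⟨x, hx, rfl⟩ hxD e he
    rw [hD] at hxD he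
    obtain ⟨d, hd, rfl⟩ := he
    obtain ⟨u, hu, hux⟩ := h.cam x hx (fun hc => hxD ⟨x, hc, rfl⟩) d hd
    exact ⟨φ u, ⟨u, hu, rfl⟩, by rw [← map_inv, ← map_mul, ← map_mul, hux, map_mul]⟩

variable [Finite Γ] [hs : Fact s.Prime] {P : Subgroup Γ}

theorem exists_not_mem (h : Hyp s P) (hP : P ≠ ⊥) : ∃ x ∈ P, x ∉ ⁅P, P⁆ := by
  by_contra hcon
  push Not at hcon
  haveI := h.pgroup.isNilpotent
  haveI : Nontrivial P := (Subgroup.nontrivial_iff_ne_bot P).2 hP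
  refine (IsSolvable.commutator_lt_top_of_nontrivial P).ne (eq_top_iff.2 fun x _ => ?_)
  obtain ⟨y, hy, hyx⟩ : (x : Γ) ∈ (commutator P).map P.subtype := by
    rw [P.map_subtype_commutator]
    exact hcon _ x.2
  exact (Subtype.ext hyx : y = x) ▸ hy

theorem pow_not_mem {D : Subgroup Γ} {x : Γ} (hx : x ∉ D) (hxs : x ^ s ∈ D) {i : ℕ} (hi0 : 0 < i)
    (his : i < s) : x ^ i ∉ D := by
  intro hi
  apply hx
  have hco : Nat.Coprime i s :=
    ((hs.out.coprime_iff_not_dvd).2 (Nat.not_dvd_of_pos_of_lt hi0 his)).symm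
  have h1 : ((x ^ i : Γ) ^ Nat.gcdA i s) * ((x ^ s : Γ) ^ Nat.gcdB i s) ∈ D :=
    D.mul_mem (D.zpow_mem hi _) (D.zpow_mem hxs _)
  rwa [← zpow_natCast x i, ← zpow_natCast x s, ← zpow_mul, ← zpow_mul, ← zpow_add,
    ← Nat.gcd_eq_gcd_ab, hco.gcd_eq_one, Nat.cast_one, zpow_one] at h1

/-- `|C_P(x)| |D| ≤ |P|`. -/
theorem card_centralizer_mul_le (h : Hyp s P) {x : Γ} (hx : x ∈ P) (hxD : x ∉ ⁅P, P⁆) :
    Nat.card (Subgroup.centralizer ({x} : Set Γ) ⊓ P : Subgroup Γ) * Nat.card ↥⁅P, P⁆ ≤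
      Nat.card P := by
  choose σ hσ hσx using fun d : ↥⁅P, P⁆ => h.cam x hx hxD d d.2
  let f : (Subgroup.centralizer ({x} : Set Γ) ⊓ P : Subgroup Γ) × ↥⁅P, P⁆ → P :=
    fun cd => ⟨σ cd.2 * cd.1, P.mul_mem (hσ cd.2) cd.1.2.2⟩
  rw [← Nat.card_prod]
  refine Nat.card_le_card_of_injective f ?_
  rintro ⟨c, d⟩ ⟨c', d'⟩ he
  have he' : σ d * (c : Γ) = σ d' * (c' : Γ) := congrArg Subtype.val he
  have key : ∀ (c : (Subgroup.centralizer ({x} : Set Γ) ⊓ P : Subgroup Γ)) (d : ↥⁅P, P⁆),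
      σ d * (c : Γ) * x * (σ d * (c : Γ))⁻¹ = d * x := by
    intro c d
    rw [mul_inv_rev, ← hσx d]
    have hc : (c : Γ) * x = x * c := Subgroup.mem_centralizer_singleton_iff.1 c.2.1
    rw [mul_assoc (σ d) (c : Γ) x, hc]
    group
  have hd : d = d' := by
    refine Subtype.ext (mul_right_cancel (b := x) ?_)
    rw [← key c d, he', key c' d']
  subst hd
  exact Prod.ext (Subtype.ext (mul_left_cancel he')) rfl

/-- A central subgroup in `D` is small. -/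
theorem card_central_bound (h : Hyp s P) {x : Γ} (hx : x ∈ P) (hxD : x ∉ ⁅P, P⁆) {U : Subgroup Γ}
    (hUD : U ≤ ⁅P, P⁆) (hU : ∀ u ∈ U, ∀ y ∈ P, u * y = y * u) :
    s * Nat.card U * Nat.card ↥⁅P, P⁆ ≤ Nat.card P := by
  refine le_trans (Nat.mul_le_mul_right _ ?_) (card_centralizer_mul_le h hx hxD)
  let f : Fin s × U → (Subgroup.centralizer ({x} : Set Γ) ⊓ P : Subgroup Γ) := fun iu =>
    ⟨x ^ (iu.1 : ℕ) * iu.2,
      Subgroup.mem_centralizer_singleton_iff.2 (by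
        rw [mul_assoc, hU _ iu.2.2 x hx, ← mul_assoc, ← mul_assoc, ← pow_succ, ← pow_succ']),
      P.mul_mem (P.pow_mem hx _) (commutator_le_self P (hUD iu.2.2))⟩
  have hf : Function.Injective f := by
    rintro ⟨i, u⟩ ⟨j, v⟩ he
    have he' : x ^ (i : ℕ) * (u : Γ) = x ^ (j : ℕ) * (v : Γ) := congrArg Subtype.val he
    have key : ∀ (i j : Fin s) (u v : U), x ^ (i : ℕ) * (u : Γ) = x ^ (j : ℕ) * (v : Γ) →
        ¬ (i : ℕ) < j := by
      intro i j u v he hlt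
      refine pow_not_mem hxD (h.exp x hx) (i := j - i) (by omega) (by omega) ?_
      have : x ^ ((j : ℕ) - i) = (u : Γ) * (v : Γ)⁻¹ := by
        rw [eq_mul_inv_iff_mul_eq]
        refine mul_left_cancel (a := x ^ (i : ℕ)) ?_
        rw [← mul_assoc, ← pow_add, Nat.add_sub_cancel' hlt.le, he]
      rw [this]
      exact (⁅P, P⁆).mul_mem (hUD u.2) ((⁅P, P⁆).inv_mem (hUD v.2))
    obtain rfl : i = j := Fin.ext (le_antisymm (not_lt.1 (key j i v u he'.symm))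
      (not_lt.1 (key i j u v he')))
    exact Prod.ext rfl (Subtype.ext (mul_left_cancel he'))
  have := Nat.card_le_card_of_injective f hf
  rwa [Nat.card_prod, Nat.card_eq_fintype_card (α := Fin s), Fintype.card_fin] at this

omit [Finite Γ] hs in
theorem comm_mul_left (hc : ∀ d ∈ ⁅P, P⁆, ∀ u ∈ P, d * u = u * d) {a b c : Γ} (ha : a ∈ P)
    (hb : b ∈ P) (hcP : c ∈ P) : ⁅a * b, c⁆ = ⁅a, c⁆ * ⁅b, c⁆ := by
  have h1 := hc _ (Subgroup.commutator_mem_commutator hb hcP) a ha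
  calc ⁅a * b, c⁆ = a * ⁅b, c⁆ * a⁻¹ * ⁅a, c⁆ := by simp only [commutatorElement_def]; group
    _ = ⁅b, c⁆ * ⁅a, c⁆ := by rw [← h1, mul_inv_cancel_right]
    _ = ⁅a, c⁆ * ⁅b, c⁆ := hc _ (Subgroup.commutator_mem_commutator hb hcP) _
        (commutator_le_self P (Subgroup.commutator_mem_commutator ha hcP))

omit [Finite Γ] hs in
theorem comm_mul_right (hc : ∀ d ∈ ⁅P, P⁆, ∀ u ∈ P, d * u = u * d) {a b c : Γ} (ha : a ∈ P)
    (hb : b ∈ P) (hcP : c ∈ P) : ⁅a, b * c⁆ = ⁅a, b⁆ * ⁅a, c⁆ := by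
  have h1 := hc _ (Subgroup.commutator_mem_commutator ha hcP) b hb
  calc ⁅a, b * c⁆ = ⁅a, b⁆ * (b * ⁅a, c⁆ * b⁻¹) := by simp only [commutatorElement_def]; group
    _ = ⁅a, b⁆ * ⁅a, c⁆ := by rw [← h1, mul_inv_cancel_right]

omit [Finite Γ] hs in
theorem comm_pow_left (hc : ∀ d ∈ ⁅P, P⁆, ∀ u ∈ P, d * u = u * d) {a c : Γ} (ha : a ∈ P)
    (hcP : c ∈ P) : ∀ n : ℕ, ⁅a, c⁆ ^ n = ⁅a ^ n, c⁆
  | 0 => by simp
  | n + 1 => by
    rw [pow_succ, pow_succ, comm_mul_left hc (P.pow_mem ha _) ha hcP, comm_pow_left hc ha hcP n]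

omit [Finite Γ] hs in
theorem comm_of_central (hc : ∀ d ∈ ⁅P, P⁆, ∀ u ∈ P, d * u = u * d) {a b d : Γ}
    (ha : a ∈ P) (hb : b ∈ P) (hd : d ∈ ⁅P, P⁆) :
    ⁅d * a, b⁆ = ⁅a, b⁆ ∧ ⁅a, d * b⁆ = ⁅a, b⁆ := by
  refine ⟨?_, ?_⟩
  · rw [comm_mul_left hc (commutator_le_self P hd) ha hb,
      (commutatorElement_eq_one_iff_mul_comm (g₁ := d) (g₂ := b)).2 (hc d hd b hb), one_mul]
  · rw [comm_mul_right hc ha (commutator_le_self P hd) hb,
      (commutatorElement_eq_one_iff_mul_comm (g₁ := a) (g₂ := d)).2 (hc d hd a ha).symm, one_mul]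

/-- If `D` is central it has exponent `s`. -/
theorem pow_eq_one_of_central (h : Hyp s P) (hc : ∀ d ∈ ⁅P, P⁆, ∀ u ∈ P, d * u = u * d) {d : Γ}
    (hd : d ∈ ⁅P, P⁆) : d ^ s = 1 := by
  rw [Subgroup.commutator_def] at hd
  induction hd using Subgroup.closure_induction with
  | mem g hg =>
    obtain ⟨a, ha, b, hb, rfl⟩ := hg
    rw [comm_pow_left hc ha hb, commutatorElement_eq_one_iff_mul_comm]
    exact hc _ (h.exp a ha) b hb
  | one => exact one_pow s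
  | mul a b ha hb iha ihb =>
    rw [← Subgroup.commutator_def] at ha hb
    rw [(show Commute a b from hc a ha b (commutator_le_self P hb)).mul_pow, iha, ihb, one_mul]
  | inv a _ iha => rw [inv_pow, iha, inv_one]

end Cfsg.Agent.H10.Camina
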