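import Cfsg.Agent.H10.Camina.Regular
import Cfsg.Agent.H60.Amalgam

/-!
Class at most two and exponent `s` for Camina `s`-groups with transitive abelian operators.
-/

set_option autoImplicit false
set_option linter.unusedSectionVars false
set_option linter.style.haveILetI false

namespace Cfsg.Agent.H10.Camina

open scoped commutatorElement

universe u

variable {Γ : Type u} [Group Γ] [Finite Γ] {s : ℕ} [hs : Fact s.Prime] {P : Subgroup Γ}

theorem class_three_bot (h : Hyp s P) (h3 : 3 ≤ s)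
    (hU : ⁅⁅⁅P, P⁆, P⁆, P⁆ = ⊥) : ⁅⁅P, P⁆, P⁆ = ⊥ := by
  classical
  by_cases hP : P = ⊥
  · subst hP; simp
  haveI := h.normal
  set D := ⁅P, P⁆ with hD
  set U := ⁅D, P⁆ with hUdef
  haveI : D.Normal := Subgroup.commutator_normal P P
  haveI : U.Normal := Subgroup.commutator_normal D P
  have hUc : ∀ u ∈ U, ∀ y ∈ P, u * y = y * u := fun u hu y hy =>
    commutatorElement_eq_one_iff_mul_comm.1 (Subgroup.mem_bot.1 (hU ▸
      Subgroup.commutator_mem_commutator hu hy))
  have hUD : U ≤ D := Subgroup.commutator_le_left D P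
  have hDP : D ≤ P := commutator_le_self P
  have hDD : ⁅D, D⁆ = ⊥ := by
    refine Subgroup.commutator_commutator_eq_bot_of_rotate ?_ ?_
    · rw [Subgroup.commutator_comm P D]; exact hU
    · exact hU
  -- the operator
  obtain ⟨φ, hφ, hker⟩ : ∃ φ : Γ →* Γ ⧸ U, Function.Surjective φ ∧ φ.ker = U :=
    ⟨QuotientGroup.mk' U, QuotientGroup.mk'_surjective U, QuotientGroup.ker_mk' U⟩
  have h' := h.map φ hφ
  have hD' : ⁅P.map φ, P.map φ⁆ = D.map φ := (Subgroup.map_commutator P P φ).symm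
  have hc' : ∀ d ∈ ⁅P.map φ, P.map φ⁆, ∀ u ∈ P.map φ, d * u = u * d := by
    rw [hD']
    rintro _ ⟨d, hd, rfl⟩ _ ⟨u, hu, rfl⟩
    rw [← commutatorElement_eq_one_iff_mul_comm, ← map_commutatorElement, ← MonoidHom.mem_ker, hker]
    exact Subgroup.commutator_mem_commutator hd hu
  obtain ⟨x, hx, hxD⟩ := exists_not_mem h hP
  have hP' : P.map φ ≠ ⊥ := by
    intro hbot
    rw [Subgroup.map_eq_bot_iff, hker] at hbot
    exact hxD (hUD (hbot hx))
  obtain ⟨n', hn1, hn2⟩ := exists_operator h' h3 hc' hP'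
  obtain ⟨n, rfl⟩ := hφ n'
  rw [hD'] at hn1 hn2
  have hnD : ∀ d ∈ D, ∃ u ∈ U, n * d * n⁻¹ = u * d := fun d hd => by
    refine ⟨n * d * n⁻¹ * d⁻¹, ?_, by group⟩
    rw [← hker, MonoidHom.mem_ker, map_mul, map_mul, map_mul, map_inv, map_inv,
      hn1 _ ⟨d, hd, rfl⟩, mul_inv_cancel]
  -- everything centralises `D`
  rw [eq_bot_iff, Subgroup.commutator_le]
  intro w hw v hv
  rw [Subgroup.mem_bot, commutatorElement_eq_one_iff_mul_comm]
  set K := Subgroup.centralizer ({w} : Set Γ) ⊓ P with hK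
  have hDK : D ≤ K := fun d hd => ⟨Subgroup.mem_centralizer_singleton_iff.2
    (commutatorElement_eq_one_iff_mul_comm.1 (Subgroup.mem_bot.1 (hDD ▸
      Subgroup.commutator_mem_commutator hd hw))), hDP hd⟩
  have hKinv : ∀ u ∈ K, n * u * n⁻¹ ∈ K := by
    intro u hu
    refine ⟨Subgroup.mem_centralizer_singleton_iff.2 ?_, h.normal.conj_mem u hu.2 n⟩
    obtain ⟨e, he, hew⟩ := hnD w hw
    have h1 : (n * u * n⁻¹) * (n * w * n⁻¹) = (n * w * n⁻¹) * (n * u * n⁻¹) := by
      have h2 : u * w = w * u := Subgroup.mem_centralizer_singleton_iff.1 hu.1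
      calc (n * u * n⁻¹) * (n * w * n⁻¹) = n * (u * w) * n⁻¹ := by group
        _ = n * (w * u) * n⁻¹ := by rw [h2]
        _ = _ := by group
    have he' := hUc e he _ (h.normal.conj_mem u hu.2 n)
    rw [hew, ← mul_assoc, ← he', mul_assoc, mul_assoc e] at h1
    exact mul_left_cancel h1
  suffices hall : P ≤ K from (Subgroup.mem_centralizer_singleton_iff.1 (hall hv).1).symm
  rcases hn2 (K.map φ) (Subgroup.map_mono hDK) (Subgroup.map_mono inf_le_right) (by
      rintro _ ⟨u, hu, rfl⟩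
      exact ⟨_, hKinv u hu, by simp⟩) with hlow | hhigh
  swap
  · have h1 := (Subgroup.map_le_map_iff.1 hhigh.ge)
    rw [hker, sup_eq_left.2 (hUD.trans hDK)] at h1
    exact h1
  exfalso
  have hKD : K = D := le_antisymm (by
    have h1 := (Subgroup.map_le_map_iff.1 hlow.le)
    rwa [hker, sup_eq_left.2 hUD] at h1) hDK
  -- `P / D` embeds in `U`
  have hcw : ∀ u ∈ P, ⁅u, w⁆ ∈ U := fun u hu => by
    rw [hUdef, ← inv_mem_iff, commutatorElement_inv]
    exact Subgroup.commutator_mem_commutator hw hu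
  let ψ : P →* U := MonoidHom.mk' (fun u => ⟨⁅(u : Γ), w⁆, hcw u u.2⟩) fun a b => Subtype.ext (by
    show ⁅(a : Γ) * b, w⁆ = ⁅(a : Γ), w⁆ * ⁅(b : Γ), w⁆
    have h1 := hUc _ (hcw b b.2) a a.2
    calc ⁅(a : Γ) * b, w⁆ = a * ⁅(b : Γ), w⁆ * (a : Γ)⁻¹ * ⁅(a : Γ), w⁆ := by
          simp only [commutatorElement_def]; group
      _ = ⁅(b : Γ), w⁆ * ⁅(a : Γ), w⁆ := by rw [← h1, mul_inv_cancel_right]
      _ = _ := hUc _ (hcw b b.2) _ (hDP (hUD (hcw a a.2))))
  have hψker : ψ.ker = D.subgroupOf P := by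
    ext u
    rw [MonoidHom.mem_ker, Subgroup.mem_subgroupOf, ← hKD, hK, Subgroup.mem_inf,
      Subgroup.mem_centralizer_singleton_iff]
    constructor
    · intro hu
      exact ⟨commutatorElement_eq_one_iff_mul_comm.1 (congrArg Subtype.val hu), u.2⟩
    · intro hu
      exact Subtype.ext (commutatorElement_eq_one_iff_mul_comm.2 hu.1)
  have hsplit := Subgroup.card_eq_card_quotient_mul_card_subgroup ψ.ker
  rw [Nat.card_congr (QuotientGroup.quotientKerEquivRange ψ).toEquiv, hψker,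
    Nat.card_congr (Subgroup.subgroupOfEquivOfLe hDP).toEquiv] at hsplit
  have hb := card_central_bound h hx hxD hUD hUc
  rw [← hD] at hb
  have h4 : Nat.card P ≤ Nat.card U * Nat.card D := by
    rw [hsplit]
    exact Nat.mul_le_mul_right _ (Nat.le_of_dvd Nat.card_pos (Subgroup.card_subgroup_dvd_card _))
  have hpos : 0 < Nat.card U * Nat.card D := Nat.mul_pos Nat.card_pos Nat.card_pos
  nlinarith

/-- The derived subgroup is central. -/
theorem derived_central (h : Hyp s P) (h3 : 3 ≤ s) : ⁅⁅P, P⁆, P⁆ = ⊥ := by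
  haveI := h.normal
  set D := ⁅P, P⁆ with hD
  haveI : D.Normal := Subgroup.commutator_normal P P
  set U := ⁅D, P⁆ with hU
  haveI : U.Normal := Subgroup.commutator_normal D P
  set U4 := ⁅U, P⁆ with hU4
  haveI : U4.Normal := Subgroup.commutator_normal U P
  obtain ⟨φ, hφ, hker⟩ : ∃ φ : Γ →* Γ ⧸ U4, Function.Surjective φ ∧ φ.ker = U4 :=
    ⟨QuotientGroup.mk' U4, QuotientGroup.mk'_surjective U4, QuotientGroup.ker_mk' U4⟩
  have h1 := class_three_bot (h.map φ hφ) h3 (by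
    rw [← Subgroup.map_commutator, ← Subgroup.map_commutator, ← Subgroup.map_commutator,
      Subgroup.map_eq_bot_iff, hker])
  rw [← Subgroup.map_commutator, ← Subgroup.map_commutator, Subgroup.map_eq_bot_iff, hker] at h1
  refine eq_bot_iff.2 (H60.le_of_le_sup_commutator (p := s) (V := U) (W := ⊥) h.pgroup
    ((Subgroup.commutator_le_left D P).trans (commutator_le_self P)) bot_le ?_ ?_)
  · rw [Subgroup.normalizer_eq_top]
    exact le_top
  · rw [bot_sup_eq]; exact h1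

/-- **Exponent.** Elements of `P` outside `D` have order `s`. -/
theorem pow_eq_one (h : Hyp s P) (h3 : 3 ≤ s) {x : Γ} (hx : x ∈ P) (hxD : x ∉ ⁅P, P⁆) :
    x ^ s = 1 := by
  haveI := h.normal
  haveI hDn : (⁅P, P⁆).Normal := Subgroup.commutator_normal P P
  have hc : ∀ d ∈ ⁅P, P⁆, ∀ u ∈ P, d * u = u * d := fun d hd u hu =>
    commutatorElement_eq_one_iff_mul_comm.1 (Subgroup.mem_bot.1 (derived_central h h3 ▸
      Subgroup.commutator_mem_commutator hd hu))
  obtain ⟨n, hn⟩ := h.trans x hx hxD x⁻¹ (P.inv_mem hx) fun hc' => hxD (inv_mem_iff.1 hc')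
  rw [inv_inv] at hn
  let φ := QuotientGroup.mk' (⁅P, P⁆)
  have hφ : ∀ a : Γ, φ a = 1 ↔ a ∈ ⁅P, P⁆ := fun a => QuotientGroup.eq_one_iff a
  have hfix : ∀ (a b : Γ), ∀ u ∈ P, φ (a * b * u * (a * b)⁻¹) = φ (b * a * u * (b * a)⁻¹) := by
    intro a b u hu
    have h1 := h.comm a b (b * a * u * (b * a)⁻¹) (h.normal.conj_mem _ hu _)
    rw [← hφ, map_mul, map_inv, mul_inv_eq_one] at h1
    rw [← h1]
    congr 1
    simp only [commutatorElement_def]
    group
  -- `n` inverts `P / D`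
  have hinv : ∀ a ∈ P, n * a * n⁻¹ * a ∈ ⁅P, P⁆ := by
    intro a ha
    by_cases haD : a ∈ ⁅P, P⁆
    · exact (⁅P, P⁆).mul_mem (hDn.conj_mem a haD n) haD
    obtain ⟨m, hm⟩ := h.trans x hx hxD a ha haD
    rw [← hφ, map_mul, map_inv, mul_inv_eq_one] at hm
    rw [← hφ, map_mul] at hn ⊢
    have e : φ (n * a * n⁻¹) = φ (n * m * x * (n * m)⁻¹) := by
      simp only [map_mul, map_inv, ← hm, mul_inv_rev, mul_assoc]
    rw [e, hfix n m x hx, ← hm,
      show m * n * x * (m * n)⁻¹ = m * (n * x * n⁻¹) * m⁻¹ by group,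
      map_mul φ (m * (n * x * n⁻¹)), map_mul φ m, map_mul φ (m * x), map_mul φ m,
      eq_inv_of_mul_eq_one_left hn, map_inv]
    group
  -- `n` centralises `D`
  have hnD : ∀ d ∈ ⁅P, P⁆, n * d * n⁻¹ = d := by
    intro d hd
    rw [Subgroup.commutator_def] at hd
    induction hd using Subgroup.closure_induction with
    | mem g hg =>
      obtain ⟨a, ha, b, hb, rfl⟩ := hg
      rw [conjugate_commutatorElement,
        show n * a * n⁻¹ = (n * a * n⁻¹ * a) * a⁻¹ by group,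
        show n * b * n⁻¹ = (n * b * n⁻¹ * b) * b⁻¹ by group,
        (comm_of_central hc (P.inv_mem ha) (P.mul_mem (commutator_le_self P (hinv b hb)) (P.inv_mem hb))
          (hinv a ha)).1,
        (comm_of_central hc (P.inv_mem ha) (P.inv_mem hb) (hinv b hb)).2]
      have h1 : ⁅a⁻¹, b⁻¹⁆ * ⁅a, b⁻¹⁆ = 1 := by
        rw [← comm_mul_left hc (P.inv_mem ha) ha (P.inv_mem hb), inv_mul_cancel,
          commutatorElement_one_left]
      have h2 : ⁅a, b⁻¹⁆ * ⁅a, b⁆ = 1 := by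
        rw [← comm_mul_right hc ha (P.inv_mem hb) hb, inv_mul_cancel, commutatorElement_one_right]
      rw [eq_inv_of_mul_eq_one_left h1, eq_inv_of_mul_eq_one_left h2, inv_inv]
    | one => simp
    | mul a b _ _ iha ihb =>
      rw [show n * (a * b) * n⁻¹ = n * a * n⁻¹ * (n * b * n⁻¹) by group, iha, ihb]
    | inv a _ iha =>
      rw [show n * a⁻¹ * n⁻¹ = (n * a * n⁻¹)⁻¹ by group, iha]
  -- compute
  set d := n * x * n⁻¹ * x with hd
  have h1 : x ^ s = (d * x⁻¹) ^ s := by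
    rw [← hnD _ (h.exp x hx), ← conj_pow, hd, mul_inv_cancel_right]
  rw [(show Commute d x⁻¹ from hc d hn x⁻¹ (P.inv_mem hx)).mul_pow,
    pow_eq_one_of_central h hc hn, one_mul, inv_pow, eq_inv_iff_mul_eq_one, ← pow_two] at h1
  have h2 := pow_eq_one_of_central h hc (h.exp x hx)
  have hco : Nat.Coprime 2 s := (Nat.coprime_primes Nat.prime_two hs.out).2 (by omega)
  have h3' := pow_gcd_eq_one.2 ⟨h1, h2⟩
  rwa [hco.gcd_eq_one, pow_one] at h3'

end Cfsg.Agent.H10.Camina
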