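import Cfsg.Prelude.Def_Blocks
import Cfsg.Agent.CharBasic.Complete
import Cfsg.Agent.CharBasic.Kernel
import Cfsg.Agent.CharInduce.Ops
import Cfsg.Agent.BlockBasic.Basic
import Cfsg.Agent.S0154

/-!
An element at which a single nonlinear irreducible character does not vanish: the character table.
-/

set_option autoImplicit false
set_option linter.unusedSectionVars false
set_option linter.style.haveILetI false

namespace Cfsg.Agent.H10.Camina

open Cfsg.Agent
open scoped ComplexConjugate commutatorElement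

universe u

variable {G : Type u} [Group G] [Finite G]

theorem finite_linear : Finite (G →* ℂˣ) := by
  haveI : NeZero (Monoid.exponent (Abelianization G)) := ⟨Monoid.exponent_ne_zero_of_finite⟩
  haveI : NeZero ((Monoid.exponent (Abelianization G) : ℂ)) :=
    ⟨Nat.cast_ne_zero.mpr Monoid.exponent_ne_zero_of_finite⟩
  refine Nat.finite_of_card_ne_zero ?_
  rw [Nat.card_congr Abelianization.lift, CommGroup.card_monoidHom_of_hasEnoughRootsOfUnity]
  exact Nat.card_pos.ne'

theorem card_linear : Nat.card (G →* ℂˣ) = (commutator G).index := by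
  haveI : NeZero (Monoid.exponent (Abelianization G)) := ⟨Monoid.exponent_ne_zero_of_finite⟩
  haveI : NeZero ((Monoid.exponent (Abelianization G) : ℂ)) :=
    ⟨Nat.cast_ne_zero.mpr Monoid.exponent_ne_zero_of_finite⟩
  rw [Nat.card_congr Abelianization.lift, CommGroup.card_monoidHom_of_hasEnoughRootsOfUnity,
    Subgroup.index_eq_card]
  rfl

theorem sum_linear [Fintype (G →* ℂˣ)] {x : G} (hx : x ∉ commutator G) :
    ∑ l : G →* ℂˣ, (l x : ℂ) = 0 := by
  haveI : NeZero (Monoid.exponent (Abelianization G)) := ⟨Monoid.exponent_ne_zero_of_finite⟩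
  haveI : NeZero ((Monoid.exponent (Abelianization G) : ℂ)) :=
    ⟨Nat.cast_ne_zero.mpr Monoid.exponent_ne_zero_of_finite⟩
  have hne : (Abelianization.of x : Abelianization G) ≠ 1 := fun h =>
    hx ((QuotientGroup.eq_one_iff x).1 h)
  obtain ⟨φ, hφ⟩ := CommGroup.exists_apply_ne_one_of_hasEnoughRootsOfUnity (Abelianization G) ℂ hne
  set l₀ : G →* ℂˣ := φ.comp Abelianization.of with hl₀
  have h := Equiv.sum_comp (Equiv.mulLeft l₀) (fun l : G →* ℂˣ => (l x : ℂ))
  simp only [Equiv.coe_mulLeft, MonoidHom.mul_apply, Units.val_mul, ← Finset.mul_sum] at h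
  have h1 : ((l₀ x : ℂˣ) : ℂ) ≠ 1 := fun h1 => hφ (Units.ext h1)
  by_contra h0
  exact h1 ((mul_eq_right₀ h0).1 h)

/-- The character table near an element seen by one nonlinear character. -/
theorem table (g : G) (hg : g ∉ Subgroup.center G) (χ : Cfsg.IrrCharacter G)
    (hχ1 : Cfsg.charDegree (χ : G → ℂ) ≠ 1) (hχg : (χ : G → ℂ) g ≠ 0)
    (hother : ∀ ψ : Cfsg.IrrCharacter G, Cfsg.charDegree (ψ : G → ℂ) ≠ 1 → ψ ≠ χ →
      (ψ : G → ℂ) g = 0) :
    g ∈ commutator G ∧ (χ : G → ℂ) g = -(((commutator G).index : ℂ) / (χ : G → ℂ) 1) ∧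
      (χ : G → ℂ) g ≠ (χ : G → ℂ) 1 ∧
      (∀ x : G, x ∉ commutator G → (χ : G → ℂ) x = 0) ∧
      (∀ x ∈ commutator G, ¬ IsConj g x → (χ : G → ℂ) x = (χ : G → ℂ) 1) := by
  classical
  cases nonempty_fintype G
  haveI := finite_linear (G := G)
  cases nonempty_fintype (G →* ℂˣ)
  set d : ℕ := Cfsg.charDegree (χ : G → ℂ) with hd
  have hd1 : (χ : G → ℂ) 1 = d := BlockBasic.apply_one_eq_charDegree χ
  have hd0 : (d : ℂ) ≠ 0 := hd1 ▸ CharBasic.IsIrr.one_ne_zero χ.2
  -- the columns
  have hcol : ∀ x : G, ¬ IsConj g x → (∑ l : G →* ℂˣ, (l g : ℂ) * conj (l x : ℂ)) +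
      (χ : G → ℂ) g * conj ((χ : G → ℂ) x) = 0 := by
    intro x hx
    have h0 := CharBasic.second_orthogonality_not_isConj hx
    rw [← Finset.sum_filter_add_sum_filter_not Finset.univ
      (fun ψ : Cfsg.IrrCharacter G => Cfsg.charDegree (ψ : G → ℂ) = 1)] at h0
    refine Eq.trans (congrArg₂ (· + ·) ?_ ?_) h0
    · refine Finset.sum_bij (fun l _ => (⟨fun a => (l a : ℂ), CharInduce.isIrrCharacter_hom l⟩ :
        Cfsg.IrrCharacter G)) ?_ ?_ ?_ fun _ _ => rfl
      · intro l _
        refine Finset.mem_filter.2 ⟨Finset.mem_univ _, ?_⟩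
        show ⌊((l 1 : ℂˣ) : ℂ).re⌋₊ = 1
        simp
      · intro l _ l' _ h
        exact MonoidHom.ext fun a => Units.ext (congrFun (congrArg Subtype.val h) a)
      · intro ψ hψ
        obtain ⟨l, hl⟩ := CharInduce.IsChar.exists_hom_of_degree_one
          (CharBasic.IsIrr.isCharacter ψ.2)
          (by rw [BlockBasic.apply_one_eq_charDegree, (Finset.mem_filter.1 hψ).2, Nat.cast_one])
        exact ⟨l, Finset.mem_univ _, Subtype.ext (funext fun a => (hl a).symm)⟩
    · rw [Finset.sum_eq_single_of_mem χ (Finset.mem_filter.2 ⟨Finset.mem_univ _, hχ1⟩)]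
      intro ψ hψ hne
      rw [hother ψ (Finset.mem_filter.1 hψ).2 hne, zero_mul]
  have hlM : ∀ (l : G →* ℂˣ) (a : G), a ∈ commutator G → l a = 1 := fun l a ha =>
    Abelianization.commutator_subset_ker l ha
  have h1 := hcol 1 fun h => hg (by
    rw [isConj_one_left.1 h]; exact one_mem _)
  simp only [map_one, Units.val_one, mul_one, hd1, Complex.conj_natCast] at h1
  have hgM : g ∈ commutator G := by
    by_contra hgM
    rw [sum_linear hgM, zero_add, mul_eq_zero] at h1
    exact h1.elim hχg hd0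
  have hm : (Fintype.card (G →* ℂˣ) : ℂ) = ((commutator G).index : ℂ) := by
    rw [← card_linear (G := G), Nat.card_eq_fintype_card]
  have hsum1 : ∑ l : G →* ℂˣ, (l g : ℂ) = ((commutator G).index : ℂ) := by
    simp [hlM _ g hgM, hm]
  rw [hsum1] at h1
  have hval : (χ : G → ℂ) g = -(((commutator G).index : ℂ) / (χ : G → ℂ) 1) := by
    rw [hd1, eq_neg_iff_add_eq_zero]
    field_simp
    linear_combination h1
  refine ⟨hgM, hval, ?_, ?_, ?_⟩
  · intro he
    rw [he, hd1] at h1
    have : (((commutator G).index + d * d : ℕ) : ℂ) = 0 := by push_cast; exact h1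
    rw [Nat.cast_eq_zero] at this
    exact (commutator G).index_ne_zero_of_finite (Nat.add_eq_zero_iff.1 this).1
  · intro x hx
    have h2 := hcol x fun h => hx (by
      obtain ⟨c, rfl⟩ := isConj_iff.1 h
      exact (inferInstance : (commutator G).Normal).conj_mem g hgM c)
    simp only [hlM _ g hgM, Units.val_one, one_mul] at h2
    rw [← map_sum, sum_linear hx, map_zero, zero_add, mul_eq_zero] at h2
    simpa using h2.resolve_left hχg
  · intro x hx hnc
    have h2 := hcol x hnc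
    simp only [hlM _ g hgM, hlM _ x hx, Units.val_one, map_one, one_mul, Finset.sum_const,
      Finset.card_univ, nsmul_eq_mul, mul_one, hm] at h2
    have h3 : conj ((χ : G → ℂ) x) = (d : ℂ) :=
      mul_left_cancel₀ hχg (by linear_combination h2 - h1)
    rw [hd1, ← Complex.conj_conj ((χ : G → ℂ) x), h3, Complex.conj_natCast]

/-- A nonlinear character constant on the derived cosets equals `χ`. -/
theorem eq_of_kernel (g : G) (χ : Cfsg.IrrCharacter G)
    (hval : (χ : G → ℂ) g ≠ (χ : G → ℂ) 1)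
    (hvan : ∀ x : G, x ∉ commutator G → (χ : G → ℂ) x = 0)
    (hin : ∀ x ∈ commutator G, ¬ IsConj g x → (χ : G → ℂ) x = (χ : G → ℂ) 1)
    (ψ : Cfsg.IrrCharacter G) (hψg : ψ ≠ χ → (ψ : G → ℂ) g = 0)
    (hker : ∀ x : G, (χ : G → ℂ) x = (χ : G → ℂ) 1 → (ψ : G → ℂ) x = (ψ : G → ℂ) 1) : ψ = χ := by
  classical
  cases nonempty_fintype G
  by_contra hne
  have h0 := CharBasic.classInner_irr_of_ne ψ.2 χ.2 fun h => hne (Subtype.ext h)
  have key : ∀ x : G, (ψ : G → ℂ) x * conj ((χ : G → ℂ) x) =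
      if (χ : G → ℂ) x = (χ : G → ℂ) 1 then (ψ : G → ℂ) 1 * conj ((χ : G → ℂ) 1) else 0 := by
    intro x
    split_ifs with hx
    · rw [hker x hx, hx]
    by_cases hxM : x ∈ commutator G
    · have hc : IsConj g x := by
        by_contra hnc
        exact hx (hin x hxM hnc)
      obtain ⟨c, rfl⟩ := isConj_iff.1 hc
      rw [CharBasic.IsIrr.isClassFunction ψ.2 g c, hψg hne, zero_mul]
    · rw [hvan x hxM, map_zero, mul_zero]
  rw [CharBasic.classInner_def, Finset.sum_congr rfl fun x _ => key x, Finset.sum_ite,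
    Finset.sum_const_zero, add_zero, Finset.sum_const, nsmul_eq_mul] at h0
  have h1 : (χ : G → ℂ) 1 ≠ 0 := CharBasic.IsIrr.one_ne_zero χ.2
  have h2 : (ψ : G → ℂ) 1 ≠ 0 := CharBasic.IsIrr.one_ne_zero ψ.2
  have h3 : 0 < (Finset.univ.filter fun x : G => (χ : G → ℂ) x = (χ : G → ℂ) 1).card :=
    Finset.card_pos.2 ⟨1, by simp⟩
  simp [h1, h2, h3.ne', Nat.card_pos.ne'] at h0

/-- An element central modulo the kernel is not a zero of the character. -/
theorem ne_zero_of_central (χ : Cfsg.IrrCharacter G) {z : G}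
    (hz : ∀ y : G, (χ : G → ℂ) ⁅z, y⁆ = (χ : G → ℂ) 1) : (χ : G → ℂ) z ≠ 0 := by
  obtain ⟨n, ρ, hρ, hχ⟩ := χ.2
  haveI := hρ
  have h1 : ∀ y, ρ ⁅z, y⁆ = 1 := fun y => by
    have := hz y
    rw [← hχ, Representation.char_one, CharBasic.character_eq_finrank_iff] at this
    exact this
  obtain ⟨ω, hω⟩ := CharBasic.schur_scalar ρ (ρ z) fun y => by
    have e : z * y = ⁅z, y⁆ * (y * z) := by simp only [commutatorElement_def]; group
    rw [← map_mul, ← map_mul, e, map_mul, h1, one_mul]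
  rw [← hχ]
  intro h0
  rw [Representation.character, hω, map_smul, LinearMap.trace_id, smul_eq_mul, mul_eq_zero] at h0
  have hn0 : (Module.finrank ℂ (Fin n → ℂ) : ℂ) ≠ 0 :=
    Nat.cast_ne_zero.2 (CharBasic.finrank_pos_of_isIrreducible ρ).ne'
  rw [h0.resolve_right hn0, zero_smul] at hω
  have h2 : ρ z * ρ z⁻¹ = 1 := by rw [← map_mul, mul_inv_cancel, map_one]
  rw [hω, zero_mul] at h2
  haveI := CharBasic.nontrivial_of_isIrreducible ρ
  exact zero_ne_one h2

end Cfsg.Agent.H10.Camina
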