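import Mathlib

/-!
Bilinear maps on a finite field which are equivariant for the multiplicative group: if the target
has smaller dimension than the field, a generator of an irreducible subgroup acts trivially on it.
-/

set_option autoImplicit false
set_option linter.unusedSectionVars false
set_option linter.style.haveILetI false

namespace Cfsg.Agent.H10.Camina

variable {s : ℕ} [hs : Fact s.Prime]

/-- `s^a + s^b = s^c + s^e` determines `{a, b}` when `s ≥ 3`. -/
theorem pow_add_pow_inj (h3 : 3 ≤ s) {a b c e : ℕ} (hab : a ≤ b) (hce : c ≤ e)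
    (h : s ^ a + s ^ b = s ^ c + s ^ e) : a = c ∧ b = e := by
  have key : ∀ a b c e : ℕ, a ≤ b → c ≤ e → s ^ a + s ^ b = s ^ c + s ^ e → a ≤ c := by
    intro a b c e hab hce h
    by_contra hlt
    push Not at hlt
    have h1 : s ^ (c + 1) ∣ s ^ c + s ^ e :=
      h ▸ dvd_add (pow_dvd_pow s hlt) (pow_dvd_pow s (hlt.trans_le hab))
    rcases hce.eq_or_lt with rfl | hlt'
    · rw [← two_mul, pow_succ, mul_comm 2, Nat.mul_dvd_mul_iff_left (pow_pos (by omega) _)] at h1
      have := Nat.le_of_dvd two_pos h1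
      omega
    · have h2 : s ^ (c + 1) ∣ s ^ c := (Nat.dvd_add_left (pow_dvd_pow s hlt')).1 h1
      have := (Nat.pow_dvd_pow_iff_le_right (show 1 < s by omega)).1 h2
      omega
  have hac : a = c := le_antisymm (key a b c e hab hce h) (key c e a b hce hab h.symm)
  subst hac
  exact ⟨rfl, Nat.pow_right_injective (show 2 ≤ s by omega) (Nat.add_left_cancel h)⟩

theorem two_mul_pow_lt (h3 : 3 ≤ s) {k i j : ℕ} (hk : 2 ≤ k) (hi : i < k) (hj : j < k) :
    s ^ i + s ^ j < s ^ k - 1 := by
  obtain ⟨k, rfl⟩ := Nat.exists_eq_add_of_lt hi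
  have h1 : s ^ i ≤ s ^ (i + k) := Nat.pow_le_pow_right (by omega) (by omega)
  have h2 : s ^ j ≤ s ^ (i + k) := Nat.pow_le_pow_right (by omega) (by omega)
  have h5 : 3 * s ^ (i + k) ≤ s ^ (i + k + 1) := by
    rw [pow_succ, mul_comm 3]; exact Nat.mul_le_mul_left _ h3
  have : s ^ 1 ≤ s ^ (i + k) := Nat.pow_le_pow_right (by omega) (by omega)
  rw [pow_one] at this
  omega

section Field

variable {E : Type*} [Field E] [Finite E] [Algebra (ZMod s) E]

theorem card_eq : Nat.card E = s ^ Module.finrank (ZMod s) E := by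
  rw [Module.natCard_eq_pow_finrank (K := ZMod s), Nat.card_eq_fintype_card, ZMod.card]

theorem algHom_pow (σ : E →ₐ[ZMod s] E) : ∃ i < Module.finrank (ZMod s) E, ∀ x, σ x = x ^ s ^ i := by
  cases nonempty_fintype E
  let e := AlgEquiv.ofBijective σ σ.bijective
  obtain ⟨i, hi⟩ := (FiniteField.bijective_frobeniusAlgEquivOfAlgebraic_pow (ZMod s) E).2 e
  refine ⟨i, i.2, fun x => ?_⟩
  have := congrArg (fun f : E ≃ₐ[ZMod s] E => f x) hi
  simp only [AlgEquiv.coe_pow, FiniteField.coe_frobeniusAlgEquivOfAlgebraic_iterate] at this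
  rw [ZMod.card] at this
  exact this.symm

theorem pow_conj_mem {P : Polynomial (ZMod s)} {x : E} (h : Polynomial.aeval x P = 0) (l : ℕ) :
    Polynomial.aeval (x ^ s ^ l) P = 0 := by
  cases nonempty_fintype E
  have h1 := Polynomial.aeval_algHom_apply
    ((FiniteField.frobeniusAlgEquivOfAlgebraic (ZMod s) E ^ l : E ≃ₐ[ZMod s] E) : E →ₐ[ZMod s] E) x P
  rw [h, map_zero] at h1
  simpa [AlgEquiv.coe_pow, FiniteField.coe_frobeniusAlgEquivOfAlgebraic_iterate, ZMod.card] using h1

/-- Linear maps to the field are combinations of the automorphisms. -/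
theorem exists_repr [Fintype (E →ₐ[ZMod s] E)] (g : E →ₗ[ZMod s] E) :
    ∃ c : (E →ₐ[ZMod s] E) → E, g = ∑ σ, c σ • σ.toLinearMap := by
  have hcard : Fintype.card (E →ₐ[ZMod s] E) = Module.finrank E (E →ₗ[ZMod s] E) := by
    cases nonempty_fintype E
    rw [Module.finrank_linearMap_self, ← IsGalois.card_aut_eq_finrank (ZMod s) E,
      Nat.card_eq_fintype_card]
    exact Fintype.card_congr (algEquivEquivAlgHom (ZMod s) E).toEquiv.symm
  haveI : Nonempty (E →ₐ[ZMod s] E) := ⟨AlgHom.id _ _⟩
  have h := (linearIndependent_algHom_toLinearMap (ZMod s) E E).span_eq_top_of_card_eq_finrank hcard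
  obtain ⟨c, hc⟩ := (Submodule.mem_span_range_iff_exists_fun E).1 (h.ge (Submodule.mem_top (x := g)))
  exact ⟨c, hc.symm⟩

theorem coeff_unique [Fintype (E →ₐ[ZMod s] E)] {c : (E →ₐ[ZMod s] E) → E}
    (h : ∀ u, ∑ σ, c σ * σ u = 0) : ∀ σ, c σ = 0 := by
  refine Fintype.linearIndependent_iff.1 (linearIndependent_algHom_toLinearMap (ZMod s) E E) c ?_
  exact LinearMap.ext fun u => by simpa [LinearMap.sum_apply] using h u

/-- A bilinear map to the field in terms of automorphisms. -/
theorem exists_repr₂ [Fintype (E →ₐ[ZMod s] E)] (β : E →ₗ[ZMod s] E →ₗ[ZMod s] E) :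
    ∃ c : (E →ₐ[ZMod s] E) → (E →ₐ[ZMod s] E) → E, ∀ u v, β u v = ∑ σ, ∑ τ, c σ τ * σ u * τ v := by
  classical
  choose d hd using fun u => exists_repr (β u)
  have hlin : ∀ τ, IsLinearMap (ZMod s) fun u => d u τ := fun τ => by
    constructor
    · intro u u'
      refine sub_eq_zero.1 (coeff_unique (c := fun τ => d (u + u') τ - (d u τ + d u' τ)) (fun v => ?_) τ)
      have := LinearMap.congr_fun (map_add β u u') v
      rw [hd (u + u'), LinearMap.add_apply, hd u, hd u'] at this
      simp only [LinearMap.sum_apply, LinearMap.smul_apply, smul_eq_mul, AlgHom.toLinearMap_apply] at this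
      simp only [sub_mul, add_mul, Finset.sum_sub_distrib, Finset.sum_add_distrib, this, sub_self]
    · intro a u
      refine sub_eq_zero.1 (coeff_unique (c := fun τ => d (a • u) τ - a • d u τ) (fun v => ?_) τ)
      have := LinearMap.congr_fun (map_smul β a u) v
      rw [hd (a • u), LinearMap.smul_apply, hd u] at this
      simp only [LinearMap.sum_apply, LinearMap.smul_apply, smul_eq_mul, AlgHom.toLinearMap_apply,
        Finset.smul_sum] at this
      simp only [sub_mul, Finset.sum_sub_distrib, this, smul_mul_assoc, sub_self]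
  choose c hc using fun τ => exists_repr (hlin τ).mk'
  refine ⟨fun σ τ => c τ σ, fun u v => ?_⟩
  rw [hd u, Finset.sum_comm]
  simp only [LinearMap.sum_apply, LinearMap.smul_apply, smul_eq_mul, AlgHom.toLinearMap_apply]
  refine Finset.sum_congr rfl fun τ _ => ?_
  have h1 := LinearMap.congr_fun (hc τ) u
  simp only [LinearMap.sum_apply, LinearMap.smul_apply, smul_eq_mul, AlgHom.toLinearMap_apply,
    IsLinearMap.mk'_apply] at h1
  rw [h1, Finset.sum_mul]

/-- **The weight lemma.** -/
theorem exists_trivial_irreducible (h3 : 3 ≤ s) {W : Type*} [AddCommGroup W] [Module (ZMod s) W]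
    [Finite W] (T : W →ₗ[ZMod s] W) (f : E →ₗ[ZMod s] E →ₗ[ZMod s] W) {ε : E} (hε0 : ε ≠ 0)
    (hε : orderOf ε = Nat.card E - 1) (hf : ∀ u v, f (ε * u) (ε * v) = T (f u v))
    (hdim : Module.finrank (ZMod s) W < Module.finrank (ZMod s) E) :
    ∃ N : ℕ, (∀ u v, (T ^ N) (f u v) = f u v) ∧
      ∀ l, 0 < l → l < Module.finrank (ZMod s) E → (ε ^ N) ^ s ^ l ≠ ε ^ N := by
  classical
  haveI : FiniteDimensional (ZMod s) W := Module.Finite.of_finite
  haveI : Fintype (E →ₐ[ZMod s] E) := Fintype.ofFinite _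
  set k := Module.finrank (ZMod s) E with hk
  have hk0 : 0 < k := Nat.zero_lt_of_lt hdim
  have hqpos : 1 < s ^ k := Nat.one_lt_pow hk0.ne' (by omega)
  rw [card_eq (s := s)] at hε
  have hεpow : ∀ a b : ℕ, a < s ^ k - 1 → b < s ^ k - 1 → ε ^ a = ε ^ b → a = b := by
    intro a b ha hb hab
    exact pow_injOn_Iio_orderOf (by rw [hε]; exact ha) (by rw [hε]; exact hb) hab
  have hεk : ε ^ s ^ k = ε := by
    conv_rhs => rw [← pow_one ε, ← pow_mod_orderOf ε 1]
    rw [← pow_mod_orderOf ε (s ^ k), hε]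
    congr 1
    rw [← Nat.ModEq]
    exact ((Nat.modEq_iff_dvd' hqpos.le).2 dvd_rfl).symm
  have hmod : ∀ i, ε ^ s ^ i = ε ^ s ^ (i % k) := by
    intro i
    induction i using Nat.strong_induction_on with
    | _ i ih =>
      rcases Nat.lt_or_ge i k with hlt | hge
      · rw [Nat.mod_eq_of_lt hlt]
      · conv_lhs => rw [show i = k + (i - k) by omega, pow_add, pow_mul, hεk]
        rw [ih (i - k) (by omega), ← Nat.mod_eq_sub_mod hge]
  -- the functional coefficients
  have hcoef : ∀ φ : W →ₗ[ZMod s] E, ∃ c : (E →ₐ[ZMod s] E) → (E →ₐ[ZMod s] E) → E,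
      ∀ (P : Polynomial (ZMod s)) (u v : E), φ (Polynomial.aeval T P (f u v)) =
        ∑ σ, ∑ τ, c σ τ * Polynomial.aeval (σ ε * τ ε) P * σ u * τ v := by
    intro φ
    obtain ⟨c, hc⟩ := exists_repr₂ (f.compr₂ φ)
    refine ⟨c, fun P => ?_⟩
    have hT : ∀ (n : ℕ) (u v : E), (T ^ n) (f u v) = f (ε ^ n * u) (ε ^ n * v) := by
      intro n
      induction n with
      | zero => intro u v; simp
      | succ n ih =>
        intro u v
        rw [pow_succ', Module.End.mul_apply, ih, ← hf, pow_succ']
        congr 1 <;> ring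
    induction P using Polynomial.induction_on' with
    | add P Q hP hQ =>
      intro u v
      simp only [map_add, LinearMap.add_apply, hP u v, hQ u v, ← Finset.sum_add_distrib, mul_add,
        add_mul]
    | monomial n a =>
      intro u v
      rw [Polynomial.aeval_monomial, Module.End.mul_apply, hT, Module.algebraMap_end_apply, map_smul]
      have h1 := hc (ε ^ n * u) (ε ^ n * v)
      rw [LinearMap.compr₂_apply] at h1
      rw [h1, Finset.smul_sum]
      refine Finset.sum_congr rfl fun σ _ => ?_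
      rw [Finset.smul_sum]
      refine Finset.sum_congr rfl fun τ _ => ?_
      rw [Polynomial.aeval_monomial, Algebra.smul_def, map_mul, map_mul, map_pow, map_pow]
      ring
  -- weights are fixed by the middle Frobenius power
  have hper : ∀ φ : W →ₗ[ZMod s] E, ∀ c : (E →ₐ[ZMod s] E) → (E →ₐ[ZMod s] E) → E,
      (∀ (P : Polynomial (ZMod s)) (u v : E), φ (Polynomial.aeval T P (f u v)) =
        ∑ σ, ∑ τ, c σ τ * Polynomial.aeval (σ ε * τ ε) P * σ u * τ v) →
      ∀ σ τ, c σ τ ≠ 0 → k % 2 = 0 ∧ (σ ε * τ ε) ^ s ^ (k / 2) = σ ε * τ ε := by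
    intro φ c hc σ τ hne
    set Q := T.charpoly
    have hQ0 : Q ≠ 0 := T.charpoly_monic.ne_zero
    have hroot : Polynomial.aeval (σ ε * τ ε) Q = 0 := by
      have h1 : ∀ u v, ∑ σ, ∑ τ, c σ τ * Polynomial.aeval (σ ε * τ ε) Q * σ u * τ v = 0 :=
        fun u v => by rw [← hc, LinearMap.aeval_self_charpoly, LinearMap.zero_apply, map_zero]
      have h2 := coeff_unique (c := fun σ => ∑ τ, c σ τ * Polynomial.aeval (σ ε * τ ε) Q * τ 1)
        (fun u => by
          rw [← h1 u 1]
          refine Finset.sum_congr rfl fun σ _ => ?_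
          rw [Finset.sum_mul]
          exact Finset.sum_congr rfl fun τ _ => by ring)
      have h3 : ∀ v, ∑ τ, c σ τ * Polynomial.aeval (σ ε * τ ε) Q * τ v = 0 := by
        intro v
        refine coeff_unique (c := fun σ => ∑ τ, c σ τ * Polynomial.aeval (σ ε * τ ε) Q * τ v)
          (fun u => ?_) σ
        rw [← h1 u v]
        refine Finset.sum_congr rfl fun σ _ => ?_
        rw [Finset.sum_mul]
        exact Finset.sum_congr rfl fun τ _ => by ring
      exact (mul_eq_zero.1 (coeff_unique h3 τ)).resolve_left hne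
    obtain ⟨i, hi, hσ⟩ := algHom_pow σ
    obtain ⟨j, hj, hτ⟩ := algHom_pow τ
    set m := fun l => s ^ ((i + l) % k) + s ^ ((j + l) % k) with hm
    have hk2 : 2 ≤ k := by
      by_contra hlt
      have h1 : Q.natDegree = 0 := by rw [LinearMap.charpoly_natDegree]; omega
      rw [show Q = 1 from T.charpoly_monic.natDegree_eq_zero.1 h1, map_one] at hroot
      exact one_ne_zero hroot
    have hmlt : ∀ l, m l < s ^ k - 1 :=
      fun l => two_mul_pow_lt h3 hk2 (Nat.mod_lt _ hk0) (Nat.mod_lt _ hk0)
    have hlam : ∀ l, (σ ε * τ ε) ^ s ^ l = ε ^ m l := by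
      intro l
      rw [hσ, hτ, mul_pow, ← pow_mul, ← pow_mul, ← pow_add s, ← pow_add s, hmod (i + l), hmod (j + l),
        ← pow_add]
    -- two conjugates coincide
    obtain ⟨l₁, hl₁, l₂, hl₂, hne12, heq⟩ : ∃ l₁ ∈ Finset.range k, ∃ l₂ ∈ Finset.range k,
        l₁ ≠ l₂ ∧ (σ ε * τ ε) ^ s ^ l₁ = (σ ε * τ ε) ^ s ^ l₂ := by
      refine Finset.exists_ne_map_eq_of_card_lt_of_maps_to (t := (Q.aroots E).toFinset) ?_ ?_
      · rw [Finset.card_range]
        refine lt_of_le_of_lt ((Multiset.toFinset_card_le _).trans (Polynomial.card_roots' _)) ?_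
        rw [Polynomial.natDegree_map, LinearMap.charpoly_natDegree]
        exact hdim
      · intro l _
        simp only [Finset.mem_coe, Multiset.mem_toFinset, Polynomial.mem_aroots]
        exact ⟨hQ0, pow_conj_mem hroot l⟩
    rw [Finset.mem_range] at hl₁ hl₂
    rw [hlam, hlam] at heq
    have hmeq := hεpow _ _ (hmlt _) (hmlt _) heq
    have hadd : ∀ x l : ℕ, (x % k + l) % k = (x + l) % k := fun x l => Nat.mod_add_mod x k l
    -- shift between the two
    obtain ⟨a, b, hab, hb, hmab⟩ : ∃ a b, a < b ∧ b < k ∧ m a = m b := by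
      rcases hne12.lt_or_gt with h | h
      · exact ⟨l₁, l₂, h, hl₂, hmeq⟩
      · exact ⟨l₂, l₁, h, hl₁, hmeq.symm⟩
    have hsplit : ((i + a) % k = (i + b) % k ∧ (j + a) % k = (j + b) % k) ∨
        ((i + a) % k = (j + b) % k ∧ (j + a) % k = (i + b) % k) := by
      rcases le_total ((i + a) % k) ((j + a) % k) with h1 | h1 <;>
        rcases le_total ((i + b) % k) ((j + b) % k) with h2 | h2
      · exact Or.inl (pow_add_pow_inj h3 h1 h2 hmab)
      · exact Or.inr (pow_add_pow_inj h3 h1 h2 (hmab.trans (Nat.add_comm _ _)))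
      · exact Or.inr (pow_add_pow_inj h3 h1 h2 ((Nat.add_comm _ _).trans hmab)).symm
      · exact Or.inl (pow_add_pow_inj h3 h1 h2
          ((Nat.add_comm _ _).trans (hmab.trans (Nat.add_comm _ _)))).symm
    rcases hsplit with ⟨h, -⟩ | ⟨h, h'⟩
    · exfalso
      have h4 : a % k = b % k := Nat.ModEq.add_left_cancel' i (show i + a ≡ i + b [MOD k] from h)
      rw [Nat.mod_eq_of_lt (hab.trans hb), Nat.mod_eq_of_lt hb] at h4
      omega
    have hA : i + a ≡ j + b [MOD k] := h
    have hB : j + a ≡ i + b [MOD k] := h'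
    have hC : (i + j) + 2 * a ≡ (i + j) + 2 * b [MOD k] := by
      have := hA.add hB
      rwa [show i + a + (j + a) = i + j + 2 * a by ring, show j + b + (i + b) = i + j + 2 * b by ring] at this
    have hD : k ∣ 2 * b - 2 * a :=
      (Nat.modEq_iff_dvd' (by omega)).1 (Nat.ModEq.add_left_cancel' _ hC)
    obtain ⟨t, ht⟩ := hD
    have ht1 : t = 1 := by
      rcases t with _ | _ | t
      · omega
      · rfl
      · exfalso
        have : k * 2 ≤ k * (t + 1 + 1) := Nat.mul_le_mul_left _ (by omega)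
        omega
    subst ht1
    refine ⟨by omega, ?_⟩
    rw [hlam, show σ ε * τ ε = (σ ε * τ ε) ^ s ^ 0 by simp, hlam]
    -- the middle shift exchanges `i` and `j`
    have hb' : b = a + k / 2 := by omega
    subst hb'
    have e1 : i + 0 ≡ j + k / 2 [MOD k] := by
      refine Nat.ModEq.add_right_cancel' a ?_
      rw [show i + 0 + a = i + a by ring, show j + k / 2 + a = j + (a + k / 2) by ring]
      exact hA
    have e2 : j + 0 ≡ i + k / 2 [MOD k] := by
      refine Nat.ModEq.add_right_cancel' a ?_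
      rw [show j + 0 + a = j + a by ring, show i + k / 2 + a = i + (a + k / 2) by ring]
      exact hB
    simp only [hm]
    rw [show (i + 0) % k = (j + k / 2) % k from e1, show (j + 0) % k = (i + k / 2) % k from e2,
      Nat.add_comm]
  by_cases hzero : ∀ φ : W →ₗ[ZMod s] E, ∀ u v, φ (f u v) = 0
  · have hW : ∀ u v, f u v = 0 := by
      intro u v
      by_contra hne
      obtain ⟨g, hg⟩ := Module.Projective.exists_dual_ne_zero (ZMod s) hne
      have := hzero ((Algebra.linearMap (ZMod s) E).comp g) u v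
      rw [LinearMap.comp_apply, Algebra.linearMap_apply, map_eq_zero] at this
      exact hg this
    refine ⟨1, fun u v => by simp [hW], fun l hl hlk h => ?_⟩
    rw [pow_one] at h
    rcases Nat.eq_or_lt_of_le (Nat.one_le_pow l s (by omega)) with h1 | h1
    · have := Nat.one_lt_pow hl.ne' (show 1 < s by omega)
      omega
    · have h2 : s ^ l < s ^ k := Nat.pow_lt_pow_right (by omega) hlk
      by_cases h4 : s ^ l < s ^ k - 1
      · have := hεpow (s ^ l) 1 h4 (by omega) (by rw [h, pow_one])
        omega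
      · have h5 : s * s ^ l ≤ s ^ k := by
          rw [← pow_succ']; exact Nat.pow_le_pow_right (by omega) hlk
        have h6 := Nat.mul_le_mul_right (s ^ l) h3
        omega
  · push Not at hzero
    obtain ⟨φ, u, v, hne⟩ := hzero
    obtain ⟨c, hc⟩ := hcoef φ
    obtain ⟨σ₀, τ₀, h0⟩ : ∃ σ τ, c σ τ ≠ 0 := by
      by_contra hall
      push Not at hall
      apply hne
      have := hc 1 u v
      rw [map_one, Module.End.one_apply] at this
      rw [this]
      simp [hall]
    obtain ⟨heven, -⟩ := hper φ c hc σ₀ τ₀ h0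
    set d := k / 2 with hd
    have hkd : k = d + d := by omega
    have hd0 : 0 < d := by omega
    set N := s ^ d - 1 with hN
    have hsd : 1 < s ^ d := Nat.one_lt_pow hd0.ne' (by omega)
    refine ⟨N, fun u v => ?_, fun l hl hlk h => ?_⟩
    · rw [← sub_eq_zero]
      by_contra hne'
      obtain ⟨g, hg⟩ := Module.Projective.exists_dual_ne_zero (ZMod s) hne'
      apply hg
      set ψ := (Algebra.linearMap (ZMod s) E).comp g with hψ
      obtain ⟨c', hc'⟩ := hcoef ψ
      have h1 : ψ ((T ^ N) (f u v) - f u v) = 0 := by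
        have h2 := hc' (Polynomial.X ^ N - 1) u v
        simp only [map_sub, map_pow, Polynomial.aeval_X, map_one, LinearMap.sub_apply,
          Module.End.one_apply] at h2
        rw [map_sub, h2]
        refine Finset.sum_eq_zero fun σ _ => Finset.sum_eq_zero fun τ _ => ?_
        by_cases hz : c' σ τ = 0
        · simp [hz]
        · obtain ⟨-, hp⟩ := hper ψ c' hc' σ τ hz
          have hx : σ ε * τ ε ≠ 0 := mul_ne_zero (by simpa using hε0) (by simpa using hε0)
          have hx1 : (σ ε * τ ε) ^ N = 1 := by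
            refine mul_right_cancel₀ hx ?_
            rw [one_mul, ← pow_succ, hN, Nat.sub_add_cancel hsd.le, hp]
          rw [hx1]
          ring
      rwa [hψ, LinearMap.comp_apply, Algebra.linearMap_apply, map_eq_zero] at h1
    · have hsl : 1 < s ^ l := Nat.one_lt_pow hl.ne' (by omega)
      have h1 : (ε ^ N) ^ (s ^ l - 1) = 1 := by
        refine mul_right_cancel₀ (pow_ne_zero N hε0) ?_
        rw [one_mul, ← pow_succ, Nat.sub_add_cancel hsl.le, h]
      rw [← pow_mul] at h1
      have h2 := orderOf_dvd_of_pow_eq_one h1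
      rw [hε] at h2
      have hfac : s ^ k - 1 = N * (s ^ d + 1) := by
        rw [hkd, pow_add, hN, Nat.sub_mul, one_mul, mul_add, mul_one]
        omega
      rw [hfac, Nat.mul_dvd_mul_iff_left (by omega)] at h2
      rcases le_or_gt l d with hld | hld
      · have := Nat.pow_le_pow_right (show 0 < s by omega) hld
        have := Nat.le_of_dvd (by omega) h2
        omega
      · obtain ⟨e, rfl⟩ := Nat.exists_eq_add_of_lt hld
        have h4 : s ^ (d + e + 1) - 1 + (s ^ (e + 1) + 1) = s ^ (e + 1) * (s ^ d + 1) := by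
          have : s ^ (d + e + 1) = s ^ (e + 1) * s ^ d := by ring
          rw [mul_add, mul_one]
          omega
        have h5 : s ^ d + 1 ∣ s ^ (e + 1) + 1 :=
          (Nat.dvd_add_right h2).1 (h4 ▸ dvd_mul_left _ _)
        have h6 := Nat.le_of_dvd (by omega) h5
        have h7 : s ^ (e + 1) < s ^ d := Nat.pow_lt_pow_right (by omega) (by omega)
        omega

end Field

end Cfsg.Agent.H10.Camina
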