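import Cfsg.Agent.H10.Camina.Basic
import Cfsg.Agent.H10.Camina.Weights

/-!
In a Camina `s`-group, `s` odd, with transitive abelian operators the elements outside the derived
subgroup have order `s`.
-/

set_option autoImplicit false
set_option linter.unusedSectionVars false
set_option linter.style.haveILetI false

namespace Cfsg.Agent.H10.Camina

open scoped commutatorElement

universe u

variable {Γ : Type u} [Group Γ] [Finite Γ] {s : ℕ} [hs : Fact s.Prime] {P : Subgroup Γ}

/-- The module form of the operator lemma. -/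
theorem exists_operator_module (h3 : 3 ≤ s) {A : Type*} [Group A] {V W : Type*} [AddCommGroup V]
    [AddCommGroup W] [Finite V] [Finite W] [Module (ZMod s) V] [Module (ZMod s) W]
    (ρ : A →* AddMonoid.End V) (σ : A →* AddMonoid.End W) (hcomm : ∀ g g', ρ g * ρ g' = ρ g' * ρ g)
    (v0 : V) (hv0 : v0 ≠ 0) (htrans : ∀ v, v ≠ 0 → ∃ g, ρ g v0 = v) (F : V →+ V →+ W)
    (hF : ∀ g v w, F (ρ g v) (ρ g w) = σ g (F v w)) (hcard : s * Nat.card W ≤ Nat.card V) :
    ∃ n : A, (∀ v w, σ n (F v w) = F v w) ∧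
      ∀ S : AddSubgroup V, (∀ v ∈ S, ρ n v ∈ S) → S = ⊥ ∨ S = ⊤ := by
  classical
  haveI : FiniteDimensional (ZMod s) V := Module.Finite.of_finite
  haveI : Finite (Module.End (ZMod s) V) := Finite.of_injective
    (fun e : Module.End (ZMod s) V => (⇑e : V → V)) DFunLike.coe_injective
  let ρl : A →* Module.End (ZMod s) V :=
    { toFun := fun g => (ρ g).toZModLinearMap s
      map_one' := LinearMap.ext fun v => DFunLike.congr_fun (map_one ρ) v
      map_mul' := fun g g' => LinearMap.ext fun v => DFunLike.congr_fun (map_mul ρ g g') v }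
  have hρl : ∀ g v, ρl g v = ρ g v := fun g v => rfl
  -- the field
  let R : Subalgebra (ZMod s) (Module.End (ZMod s) V) := Algebra.adjoin (ZMod s) (Set.range ρl)
  have hRρ : ∀ g, ρl g ∈ R := fun g => Algebra.subset_adjoin ⟨g, rfl⟩
  have hRcomm : ∀ r ∈ R, ∀ g, r * ρl g = ρl g * r := by
    intro r hr g
    refine ((Algebra.commute_of_mem_adjoin_of_forall_mem_commute hr ?_)).symm
    rintro _ ⟨g', rfl⟩
    exact LinearMap.ext fun v => DFunLike.congr_fun (hcomm g g') v
  have hRinj : ∀ r ∈ R, r v0 = 0 → r = 0 := by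
    intro r hr h0
    refine LinearMap.ext fun v => ?_
    by_cases hv : v = 0
    · rw [hv, map_zero, LinearMap.zero_apply]
    obtain ⟨g, rfl⟩ := htrans v hv
    rw [← hρl, ← Module.End.mul_apply, hRcomm r hr, Module.End.mul_apply, h0, map_zero,
      LinearMap.zero_apply]
  have hRelt : ∀ r ∈ R, r ≠ 0 → ∃ g, r = ρl g := by
    intro r hr hr0
    obtain ⟨g, hg⟩ := htrans (r v0) fun hz => hr0 (hRinj r hr hz)
    refine ⟨g, sub_eq_zero.1 (hRinj _ (R.sub_mem hr (hRρ g)) ?_)⟩
    rw [LinearMap.sub_apply, hρl, hg, sub_self]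
  letI cr : CommRing R :=
    { (inferInstance : Ring R) with
      mul_comm := fun a b => Subtype.ext (by
        by_cases ha : (a : Module.End (ZMod s) V) = 0
        · simp [ha]
        obtain ⟨g, hg⟩ := hRelt a a.2 ha
        show (a : Module.End (ZMod s) V) * b = b * a
        rw [hg, hRcomm b b.2 g]) }
  have h01 : (0 : R) ≠ 1 := fun hz => hv0 (by
    have := congrArg (fun r : R => (r : Module.End (ZMod s) V) v0) hz
    simpa using this.symm)
  have hFld : IsField R :=
    { exists_pair_ne := ⟨0, 1, h01⟩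
      mul_comm := mul_comm
      mul_inv_cancel := fun {a} ha => by
        obtain ⟨g, hg⟩ := hRelt a a.2 fun hz => ha (Subtype.ext hz)
        exact ⟨⟨ρl g⁻¹, hRρ _⟩, Subtype.ext (by
          show (a : Module.End (ZMod s) V) * ρl g⁻¹ = 1
          rw [hg, ← map_mul, mul_inv_cancel, map_one])⟩ }
  letI : Field R := hFld.toField
  haveI : Finite R := inferInstanceAs (Finite {x // x ∈ R})
  let ev : R →ₗ[ZMod s] V := (LinearMap.applyₗ v0).comp R.val.toLinearMap
  have hev : ∀ r : R, ev r = (r : Module.End (ZMod s) V) v0 := fun r => rfl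
  have hevb : Function.Bijective ev := by
    refine ⟨(injective_iff_map_eq_zero ev).2 fun r hr => Subtype.ext (hRinj r r.2 hr), fun v => ?_⟩
    by_cases hv : v = 0
    · exact ⟨0, by rw [hv, map_zero]⟩
    obtain ⟨g, rfl⟩ := htrans v hv
    exact ⟨⟨ρl g, hRρ g⟩, rfl⟩
  obtain ⟨ε, hε⟩ := IsCyclic.exists_generator (α := Rˣ)
  obtain ⟨n0, hn0⟩ := hRelt (ε : R) (ε : R).2 fun hz => ε.ne_zero (Subtype.ext hz)
  have hεord : orderOf (ε : R) = Nat.card R - 1 := by
    rw [orderOf_units, orderOf_eq_card_of_forall_mem_zpowers hε, Nat.card_units]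
  let F2 : V →ₗ[ZMod s] V →ₗ[ZMod s] W := (AddMonoidHom.mk'
    (fun v => (F v).toZModLinearMap s)
    (fun v v' => LinearMap.ext fun w => DFunLike.congr_fun (map_add F v v') w)).toZModLinearMap s
  let f : R →ₗ[ZMod s] R →ₗ[ZMod s] W := F2.compl₁₂ ev ev
  let T : W →ₗ[ZMod s] W := (σ n0).toZModLinearMap s
  have hεmul : ∀ u : R, ev ((ε : R) * u) = ρ n0 (ev u) := fun u => by
    rw [hev, Subalgebra.coe_mul, Module.End.mul_apply, hn0, hρl, hev]
  have hf : ∀ u v : R, f ((ε : R) * u) ((ε : R) * v) = T (f u v) := fun u v => by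
    show F (ev ((ε : R) * u)) (ev ((ε : R) * v)) = σ n0 (F (ev u) (ev v))
    rw [hεmul, hεmul, hF]
  have hdim : Module.finrank (ZMod s) W < Module.finrank (ZMod s) R := by
    rw [(LinearEquiv.ofBijective ev hevb).finrank_eq]
    rw [Module.natCard_eq_pow_finrank (K := ZMod s) (V := W),
      Module.natCard_eq_pow_finrank (K := ZMod s) (V := V), Nat.card_eq_fintype_card (α := ZMod s),
      ZMod.card, ← pow_succ'] at hcard
    exact (Nat.pow_le_pow_iff_right hs.out.one_lt).1 hcard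
  obtain ⟨N, hTN, hirr⟩ := exists_trivial_irreducible h3 T f ε.ne_zero hεord hf hdim
  refine ⟨n0 ^ N, fun v w => ?_, fun S hSinv => ?_⟩
  · have hTpow : ∀ (j : ℕ) (w : W), (T ^ j) w = σ (n0 ^ j) w := by
      intro j
      induction j with
      | zero => intro w; rw [pow_zero, pow_zero, map_one]; rfl
      | succ j ih =>
        intro w
        rw [pow_succ', Module.End.mul_apply, ih, pow_succ', map_mul]
        rfl
    obtain ⟨u, rfl⟩ := hevb.2 v
    obtain ⟨u', rfl⟩ := hevb.2 w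
    rw [← hTpow]
    exact hTN u u'
  -- invariant subgroups
  set a : R := (ε : R) ^ N with ha
  let B := Algebra.adjoin (ZMod s) ({a} : Set R)
  haveI : Finite B := inferInstanceAs (Finite {x // x ∈ B})
  letI : Field B := (Finite.isField_of_domain B).toField
  have hBtop : B = ⊤ := by
    by_contra hne
    have hlt : Module.finrank (ZMod s) B < Module.finrank (ZMod s) R :=
      Submodule.finrank_lt (fun htop => hne (Subalgebra.toSubmodule.injective
        (htop.trans Algebra.top_toSubmodule.symm)))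
    refine hirr _ Module.finrank_pos hlt ?_
    letI := Fintype.ofFinite B
    have h1 := FiniteField.pow_card (⟨a, Algebra.subset_adjoin rfl⟩ : B)
    rw [← Nat.card_eq_fintype_card, Module.natCard_eq_pow_finrank (K := ZMod s),
      Nat.card_eq_fintype_card, ZMod.card] at h1
    exact congrArg Subtype.val h1
  let S₁ : AddSubgroup R := S.comap ev.toAddMonoidHom
  have hSa : ∀ r ∈ S₁, a * r ∈ S₁ := by
    intro r hr
    show ev (a * r) ∈ S
    rw [hev, Subalgebra.coe_mul, Module.End.mul_apply, ← hev, ha, Subalgebra.coe_pow, hn0, ← map_pow,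
      hρl]
    exact hSinv _ hr
  have hSall : ∀ t : R, ∀ r ∈ S₁, t * r ∈ S₁ := by
    intro t
    have ht : t ∈ B := hBtop ▸ Algebra.mem_top
    induction ht using Algebra.adjoin_induction with
    | mem x hx => obtain rfl : x = a := hx; exact hSa
    | algebraMap c =>
      intro r hr
      rw [← Algebra.smul_def]
      exact ZMod.smul_mem hr c
    | add x y _ _ hx hy => intro r hr; rw [add_mul]; exact S₁.add_mem (hx r hr) (hy r hr)
    | mul x y _ _ hx hy => intro r hr; rw [mul_assoc]; exact hx _ (hy r hr)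
  by_cases hS0 : S = ⊥
  · exact Or.inl hS0
  obtain ⟨v, hvS, hv⟩ := S.bot_or_exists_ne_zero.resolve_left hS0
  obtain ⟨r, rfl⟩ := hevb.2 v
  have hr0 : r ≠ 0 := fun hz => hv (by rw [hz, map_zero])
  refine Or.inr (eq_top_iff.2 fun w _ => ?_)
  obtain ⟨t, rfl⟩ := hevb.2 w
  have := hSall (t * r⁻¹) r hvS
  rwa [inv_mul_cancel_right₀ hr0] at this

/-- Class two: some operator centralises `D` and is irreducible on `P/D`. -/
theorem exists_operator (h : Hyp s P) (h3 : 3 ≤ s)
    (hc : ∀ d ∈ ⁅P, P⁆, ∀ u ∈ P, d * u = u * d) (hP : P ≠ ⊥) :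
    ∃ n : Γ, (∀ d ∈ ⁅P, P⁆, n * d * n⁻¹ = d) ∧
      ∀ S : Subgroup Γ, ⁅P, P⁆ ≤ S → S ≤ P → (∀ u ∈ S, n * u * n⁻¹ ∈ S) →
        S = ⁅P, P⁆ ∨ S = P := by
  classical
  obtain ⟨x0, hx0, hx0D⟩ := exists_not_mem h hP
  haveI := h.normal
  haveI hDn : (⁅P, P⁆).Normal := inferInstance
  set Dp : Subgroup P := (⁅P, P⁆).subgroupOf P with hDp
  haveI : Dp.Normal := hDn.subgroupOf P
  letI cq : CommGroup (P ⧸ Dp) :=
    { (inferInstance : Group (P ⧸ Dp)) with
      mul_comm := fun a b => by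
        obtain ⟨a, rfl⟩ := QuotientGroup.mk_surjective a
        obtain ⟨b, rfl⟩ := QuotientGroup.mk_surjective b
        rw [← QuotientGroup.mk_mul, ← QuotientGroup.mk_mul, QuotientGroup.eq, hDp,
          Subgroup.mem_subgroupOf]
        have : (((a * b)⁻¹ * (b * a) : P) : Γ) = ⁅(b : Γ)⁻¹, (a : Γ)⁻¹⁆ := by
          simp [commutatorElement_def, mul_assoc]
        rw [this]
        exact Subgroup.commutator_mem_commutator (P.inv_mem b.2) (P.inv_mem a.2) }
  letI cd : CommGroup ↥⁅P, P⁆ :=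
    { (inferInstance : Group ↥⁅P, P⁆) with
      mul_comm := fun a b => Subtype.ext (hc a a.2 b (commutator_le_self P b.2)) }
  have hmk : ∀ a : P, (QuotientGroup.mk a : P ⧸ Dp) = 1 ↔ (a : Γ) ∈ ⁅P, P⁆ := fun a =>
    (QuotientGroup.eq_one_iff a).trans Subgroup.mem_subgroupOf
  have hmkeq : ∀ a b : P, (QuotientGroup.mk a : P ⧸ Dp) = QuotientGroup.mk b ↔
      (a : Γ) * (b : Γ)⁻¹ ∈ ⁅P, P⁆ := fun a b => by
    rw [← mul_inv_eq_one, ← QuotientGroup.mk_inv, ← QuotientGroup.mk_mul, hmk]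
    rfl
  let cl : P → Additive (P ⧸ Dp) := fun a => Additive.ofMul (QuotientGroup.mk a : P ⧸ Dp)
  have hcl : Function.Surjective cl := fun v => by
    obtain ⟨a, ha⟩ := QuotientGroup.mk_surjective (Additive.toMul v)
    exact ⟨a, by simp [cl, ha]⟩
  have hact : ∀ g, Dp ≤ Dp.comap (MulAut.conjNormal (H := P) g).toMonoidHom := fun g x hx => by
    rw [Subgroup.mem_comap, hDp, Subgroup.mem_subgroupOf] at *
    simpa using hDn.conj_mem _ hx g
  let ρ : Γ →* AddMonoid.End (Additive (P ⧸ Dp)) :=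
    { toFun := fun g => MonoidHom.toAdditive
        (QuotientGroup.map Dp Dp (MulAut.conjNormal (H := P) g).toMonoidHom (hact g))
      map_one' := AddMonoidHom.ext fun v => by
        obtain ⟨a, rfl⟩ := hcl v
        show cl (MulAut.conjNormal 1 a) = cl a
        rw [map_one]; rfl
      map_mul' := fun g g' => AddMonoidHom.ext fun v => by
        obtain ⟨a, rfl⟩ := hcl v
        show cl (MulAut.conjNormal (g * g') a) = cl (MulAut.conjNormal g (MulAut.conjNormal g' a))
        rw [map_mul]; rfl }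
  let σ : Γ →* AddMonoid.End (Additive ↥⁅P, P⁆) :=
    { toFun := fun g => MonoidHom.toAdditive (MulAut.conjNormal (H := ⁅P, P⁆) g).toMonoidHom
      map_one' := AddMonoidHom.ext fun v => by
        show Additive.ofMul (MulAut.conjNormal 1 (Additive.toMul v)) = v
        rw [map_one]; rfl
      map_mul' := fun g g' => AddMonoidHom.ext fun v => by
        show Additive.ofMul (MulAut.conjNormal (g * g') (Additive.toMul v)) =
          Additive.ofMul (MulAut.conjNormal g (MulAut.conjNormal g' (Additive.toMul v)))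
        rw [map_mul]; rfl }
  have hρ : ∀ (g : Γ) (a : P), ρ g (cl a) = cl (MulAut.conjNormal g a) := fun g a => rfl
  let br : P →* (P →* ↥⁅P, P⁆) :=
    MonoidHom.mk' (fun a => MonoidHom.mk'
      (fun b => ⟨⁅(a : Γ), (b : Γ)⁆, Subgroup.commutator_mem_commutator a.2 b.2⟩)
      fun b c => Subtype.ext (comm_mul_right hc a.2 b.2 c.2))
      fun a b => MonoidHom.ext fun c => Subtype.ext (comm_mul_left hc a.2 b.2 c.2)
  have hbr1 : ∀ a : P, Dp ≤ (br a).ker := fun a d hd => Subtype.ext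
    ((commutatorElement_eq_one_iff_mul_comm (g₁ := (a : Γ)) (g₂ := (d : Γ))).2
      (hc _ (Subgroup.mem_subgroupOf.1 hd) a a.2).symm)
  let br1 : P →* (P ⧸ Dp →* ↥⁅P, P⁆) :=
    MonoidHom.mk' (fun a => QuotientGroup.lift Dp (br a) (hbr1 a))
      fun a b => MonoidHom.ext fun c => by
        obtain ⟨c, rfl⟩ := QuotientGroup.mk_surjective c
        exact MonoidHom.ext_iff.1 (map_mul br a b) c
  let br2 : P ⧸ Dp →* (P ⧸ Dp →* ↥⁅P, P⁆) :=
    QuotientGroup.lift Dp br1 fun d hd => MonoidHom.ext fun c => by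
      obtain ⟨c, rfl⟩ := QuotientGroup.mk_surjective c
      exact Subtype.ext ((commutatorElement_eq_one_iff_mul_comm (g₁ := (d : Γ)) (g₂ := (c : Γ))).2
        (hc _ (Subgroup.mem_subgroupOf.1 hd) c c.2))
  let F : Additive (P ⧸ Dp) →+ Additive (P ⧸ Dp) →+ Additive ↥⁅P, P⁆ :=
    AddMonoidHom.mk' (fun v => MonoidHom.toAdditive (br2 (Additive.toMul v))) fun v v' =>
      AddMonoidHom.ext fun w => congrArg Additive.ofMul
        (MonoidHom.ext_iff.1 (map_mul br2 (Additive.toMul v) (Additive.toMul v')) (Additive.toMul w))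
  have hF : ∀ a b : P, ((Additive.toMul (F (cl a) (cl b)) : ↥⁅P, P⁆) : Γ) = ⁅(a : Γ), (b : Γ)⁆ := fun a b => rfl
  haveI : Finite (Additive (P ⧸ Dp)) := inferInstanceAs (Finite (P ⧸ Dp))
  haveI : Finite (Additive ↥⁅P, P⁆) := inferInstanceAs (Finite ↥⁅P, P⁆)
  have hcards : Nat.card P = Nat.card (Additive (P ⧸ Dp)) * Nat.card ↥⁅P, P⁆ := by
    rw [Subgroup.card_eq_card_quotient_mul_card_subgroup Dp,
      Nat.card_congr (Subgroup.subgroupOfEquivOfLe (commutator_le_self P)).toEquiv]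
    rfl
  have hb := card_central_bound h hx0 hx0D le_rfl hc
  rw [hcards] at hb
  have hVs : ∀ x : Additive (P ⧸ Dp), s • x = 0 := fun x => by
    obtain ⟨x, rfl⟩ := Additive.ofMul.surjective x
    obtain ⟨x, rfl⟩ := QuotientGroup.mk_surjective x
    rw [← ofMul_pow, ← QuotientGroup.mk_pow, (hmk (x ^ s)).2 (by simpa using h.exp x x.2), ofMul_one]
  have hWs : ∀ x : Additive ↥⁅P, P⁆, s • x = 0 := fun x => by
    obtain ⟨x, rfl⟩ := Additive.ofMul.surjective x
    rw [← ofMul_pow, show x ^ s = 1 from Subtype.ext (by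
      rw [SubmonoidClass.coe_pow]; exact pow_eq_one_of_central h hc x.2), ofMul_one]
  obtain ⟨n, hn1, hn2⟩ := @exists_operator_module s hs h3 Γ _ (Additive (P ⧸ Dp))
    (Additive ↥⁅P, P⁆) _ _ _ _ (AddCommGroup.zmodModule hVs) (AddCommGroup.zmodModule hWs)
    ρ σ
    (fun g g' => AddMonoidHom.ext fun v => by
      obtain ⟨a, rfl⟩ := hcl v
      show cl (MulAut.conjNormal g (MulAut.conjNormal g' a)) =
        cl (MulAut.conjNormal g' (MulAut.conjNormal g a))
      refine congrArg Additive.ofMul ((hmkeq _ _).2 ?_)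
      simp only [MulAut.conjNormal_apply]
      have h1 := h.comm g g' (g' * (g * a * g⁻¹) * g'⁻¹)
        (h.normal.conj_mem _ (h.normal.conj_mem _ a.2 _) _)
      have e : ⁅g, g'⁆ * (g' * (g * a * g⁻¹) * g'⁻¹) * ⁅g, g'⁆⁻¹ = g * (g' * a * g'⁻¹) * g⁻¹ := by
        simp only [commutatorElement_def]; group
      rwa [e] at h1)
    (cl ⟨x0, hx0⟩) (fun hz => hx0D ((hmk _).1 hz))
    (fun v hv => by
      obtain ⟨a, rfl⟩ := hcl v
      obtain ⟨g, hg⟩ := h.trans x0 hx0 hx0D a a.2 fun hc' => hv ((hmk a).2 hc')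
      exact ⟨g, (hρ g _).trans (congrArg Additive.ofMul ((hmkeq _ _).2
        (by rw [MulAut.conjNormal_apply]; exact hg)))⟩)
    F
    (fun g v w => by
      obtain ⟨a, rfl⟩ := hcl v
      obtain ⟨b, rfl⟩ := hcl w
      refine Additive.toMul.injective (Subtype.ext ?_)
      rw [hρ, hρ, hF]
      show _ = ((MulAut.conjNormal g (Additive.toMul (F (cl a) (cl b)))) : Γ)
      rw [MulAut.conjNormal_apply g (Additive.toMul ((F (cl a)) (cl b))), hF, MulAut.conjNormal_apply,
        MulAut.conjNormal_apply]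
      exact (conjugate_commutatorElement (a : Γ) (b : Γ) g).symm)
    (Nat.le_of_mul_le_mul_right hb Nat.card_pos)
  refine ⟨n, fun d hd => ?_, fun S hDS hSP hSinv => ?_⟩
  · rw [Subgroup.commutator_def] at hd
    induction hd using Subgroup.closure_induction with
    | mem g hg =>
      obtain ⟨a, ha, b, hb, rfl⟩ := hg
      exact congrArg (fun w => ((Additive.toMul w : ↥⁅P, P⁆) : Γ)) (hn1 (cl ⟨a, ha⟩) (cl ⟨b, hb⟩))
    | one => simp
    | mul a b _ _ iha ihb =>
      rw [show n * (a * b) * n⁻¹ = n * a * n⁻¹ * (n * b * n⁻¹) by group, iha, ihb]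
    | inv a _ iha =>
      rw [show n * a⁻¹ * n⁻¹ = (n * a * n⁻¹)⁻¹ by group, iha]
  let S' : AddSubgroup (Additive (P ⧸ Dp)) :=
    Subgroup.toAddSubgroup ((S.subgroupOf P).map (QuotientGroup.mk' Dp))
  have hS' : ∀ a : P, cl a ∈ S' ↔ (a : Γ) ∈ S := fun a => by
    refine ⟨fun hh => ?_, fun hh => ⟨a, hh, rfl⟩⟩
    obtain ⟨b, hb, hba⟩ := hh
    have := S.mul_mem (hDS ((hmkeq a b).1 hba.symm)) (Subgroup.mem_subgroupOf.1 hb)
    rwa [inv_mul_cancel_right] at this
  rcases hn2 S' (fun v hv => by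
      obtain ⟨a, rfl⟩ := hcl v
      rw [hρ, hS', MulAut.conjNormal_apply]
      exact hSinv _ ((hS' a).1 hv)) with hbot | htop
  · refine Or.inl (le_antisymm (fun u hu => ?_) hDS)
    have h1 := (hS' ⟨u, hSP hu⟩).2 hu
    rw [hbot, AddSubgroup.mem_bot] at h1
    exact (hmk ⟨u, hSP hu⟩).1 h1
  · exact Or.inr (le_antisymm hSP fun u hu => (hS' ⟨u, hu⟩).1 (htop ▸ AddSubgroup.mem_top _))

end Cfsg.Agent.H10.Camina
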