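import Cfsg.Agent.H10.Camina.Exponent
import Cfsg.Agent.Fusion.Tate
import Cfsg.Agent.Fusion.PResidual
import Cfsg.Agent.Frobenius.FPFAut
import Cfsg.Agent.S0205

/-!
A group with a normal subgroup `K` of the derived subgroup `M` such that `M ∖ K` is one class, and
all elements central modulo `K` lie in `M`, is solvable.
-/

set_option autoImplicit false
set_option linter.unusedSectionVars false
set_option linter.style.haveILetI false

namespace Cfsg.Agent.H10.Camina

open Cfsg.Agent
open scoped commutatorElement Pointwise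

universe u

variable {G : Type u} [Group G] [Finite G]

/-- The centralizer in `C` of an element whose `C`-class is its `K`-coset. -/
theorem card_centralizer_eq {C K : Subgroup G} [K.Normal] (hKC : K ≤ C) {g : G}
    (hsurj : ∀ k ∈ K, ∃ c ∈ C, c * g * c⁻¹ = k * g)
    (hin : ∀ c ∈ C, c * g * c⁻¹ * g⁻¹ ∈ K) :
    Nat.card (Subgroup.centralizer ({g} : Set G) ⊓ C : Subgroup G) * Nat.card K = Nat.card C := by
  choose σ hσC hσ using fun k : K => hsurj k k.2
  rw [← Nat.card_prod]
  refine Nat.card_congr (Equiv.ofBijective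
    (fun p : (Subgroup.centralizer ({g} : Set G) ⊓ C : Subgroup G) × K =>
      (⟨σ p.2 * p.1, C.mul_mem (hσC p.2) p.1.2.2⟩ : C)) ⟨?_, ?_⟩)
  · rintro ⟨c, k⟩ ⟨c', k'⟩ he
    have he' : σ k * (c : G) = σ k' * (c' : G) := congrArg Subtype.val he
    have key : ∀ (c : (Subgroup.centralizer ({g} : Set G) ⊓ C : Subgroup G)) (k : K),
        σ k * (c : G) * g * (σ k * (c : G))⁻¹ = k * g := by
      intro c k
      have hc : (c : G) * g = g * c := Subgroup.mem_centralizer_singleton_iff.1 c.2.1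
      rw [mul_inv_rev, ← hσ k, mul_assoc (σ k) (c : G) g, hc]
      group
    have hk : k = k' := by
      refine Subtype.ext (mul_right_cancel (b := g) ?_)
      rw [← key c k, he', key c' k']
    subst hk
    exact Prod.ext (Subtype.ext (mul_left_cancel he')) rfl
  · rintro ⟨c, hc⟩
    set k : K := ⟨c * g * c⁻¹ * g⁻¹, hin c hc⟩ with hk
    have h1 : σ k * g * (σ k)⁻¹ = c * g * c⁻¹ := by
      rw [hσ k]
      show c * g * c⁻¹ * g⁻¹ * g = _
      group
    refine ⟨(⟨(σ k)⁻¹ * c, Subgroup.mem_centralizer_singleton_iff.2 ?_,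
      C.mul_mem (C.inv_mem (hσC k)) hc⟩, k), Subtype.ext (mul_inv_cancel_left _ _)⟩
    calc (σ k)⁻¹ * c * g = (σ k)⁻¹ * (c * g * c⁻¹) * c := by group
      _ = (σ k)⁻¹ * (σ k * g * (σ k)⁻¹) * c := by rw [h1]
      _ = g * ((σ k)⁻¹ * c) := by group

/-- The class of `g` under a Sylow subgroup. -/
theorem sylow_class {C K P : Subgroup G} [K.Normal] (hKC : K ≤ C) {g : G} (hPC : P ≤ C) (hgP : g ∈ P)
    (hsurj : ∀ k ∈ K, ∃ c ∈ C, c * g * c⁻¹ = k * g)
    (hin : ∀ c ∈ C, c * g * c⁻¹ * g⁻¹ ∈ K)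
    (hP : Nat.card P * Nat.card K = Nat.card C * Nat.card (P ⊓ K : Subgroup G)) :
    ∀ d ∈ P ⊓ K, ∃ u ∈ P, u * g * u⁻¹ = d * g := by
  classical
  set Z := Subgroup.centralizer ({g} : Set G) ⊓ P with hZ
  let F : P → (P ⊓ K : Subgroup G) := fun u => ⟨(u : G) * g * (u : G)⁻¹ * g⁻¹,
    P.mul_mem (P.mul_mem (P.mul_mem u.2 hgP) (P.inv_mem u.2)) (P.inv_mem hgP), hin u (hPC u.2)⟩
  -- fibres have the size of the centralizer
  let T : P → Set.range F × Z := fun u =>
    (⟨F u, u, rfl⟩, ⟨((Classical.choose (⟨u, rfl⟩ : F u ∈ Set.range F) : P) : G)⁻¹ * u, by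
      set w : P := Classical.choose (⟨u, rfl⟩ : F u ∈ Set.range F) with hw
      have h1 : F w = F u := Classical.choose_spec (⟨u, rfl⟩ : F u ∈ Set.range F)
      have h2 : (w : G) * g * (w : G)⁻¹ = u * g * (u : G)⁻¹ :=
        mul_right_cancel (congrArg Subtype.val h1)
      refine ⟨Subgroup.mem_centralizer_singleton_iff.2 ?_, P.mul_mem (P.inv_mem w.2) u.2⟩
      calc (w : G)⁻¹ * u * g = (w : G)⁻¹ * (u * g * (u : G)⁻¹) * u := by group
        _ = (w : G)⁻¹ * (w * g * (w : G)⁻¹) * u := by rw [h2]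
        _ = g * ((w : G)⁻¹ * u) := by group⟩)
  have hT : Function.Injective T := by
    intro u v he
    have h1 : F u = F v := congrArg (fun x : Set.range F × Z => (x.1 : (P ⊓ K : Subgroup G))) he
    have h2 := congrArg (fun x : Set.range F × Z => ((x.2 : Z) : G)) he
    have hch : ∀ (a b : (P ⊓ K : Subgroup G)) (ha : a ∈ Set.range F) (hb : b ∈ Set.range F), a = b →
        Classical.choose ha = Classical.choose hb := by
      rintro a b ha hb rfl
      rfl
    dsimp only [T] at h2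
    rw [hch _ _ ⟨u, rfl⟩ ⟨v, rfl⟩ h1] at h2
    exact Subtype.ext (mul_left_cancel h2)
  have hle := Nat.card_le_card_of_injective T hT
  rw [Nat.card_prod] at hle
  have hZle : Nat.card Z * Nat.card (P ⊓ K : Subgroup G) ≤ Nat.card P := by
    have h1 : Nat.card Z ≤ Nat.card (Subgroup.centralizer ({g} : Set G) ⊓ C : Subgroup G) :=
      Subgroup.card_le_of_le (inf_le_inf_left _ hPC)
    have h2 := card_centralizer_eq hKC hsurj hin
    refine Nat.le_of_mul_le_mul_right (c := Nat.card K) ?_ Nat.card_pos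
    rw [hP, ← h2]
    nlinarith [Nat.mul_le_mul_right (Nat.card K * Nat.card (P ⊓ K : Subgroup G)) h1]
  have hfull : Set.range F = Set.univ := by
    refine Set.eq_of_subset_of_ncard_le (Set.subset_univ _) ?_ Set.finite_univ
    rw [Set.ncard_univ, ← Nat.card_coe_set_eq]
    exact Nat.le_of_mul_le_mul_right (a := Nat.card (P ⊓ K : Subgroup G)) (c := Nat.card Z)
      (by rw [mul_comm]; exact hZle.trans hle) Nat.card_pos
  intro d hd
  obtain ⟨u, hu⟩ : (⟨d, hd⟩ : (P ⊓ K : Subgroup G)) ∈ Set.range F := hfull ▸ Set.mem_univ _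
  refine ⟨u, u.2, ?_⟩
  rw [← show (u : G) * g * (u : G)⁻¹ * g⁻¹ = d from congrArg Subtype.val hu, inv_mul_cancel_right]

/-- **Solvability.** -/
theorem isSolvable_of_class {K : Subgroup G} [K.Normal] {g : G} (hgM : g ∈ commutator G)
    (hgK : g ∉ K) (hKM : K ≤ commutator G)
    (hclass : ∀ x ∈ commutator G, x ∉ K → IsConj g x)
    (hcent : ∀ z : G, (∀ y : G, ⁅z, y⁆ ∈ K) → z ∈ commutator G) : Group.IsSolvable G := by
  classical
  set M := commutator G with hM
  set φ := QuotientGroup.mk' K with hφdef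
  have hφ : ∀ a : G, φ a = 1 ↔ a ∈ K := fun a => QuotientGroup.eq_one_iff a
  have hφeq : ∀ a b : G, φ a = φ b ↔ a * b⁻¹ ∈ K := fun a b => by
    rw [← mul_inv_eq_one, ← map_inv, ← map_mul, hφ]
  have hconjM : ∀ a x, x ∈ M → a * x * a⁻¹ ∈ M := fun a x hx =>
    (inferInstance : (commutator G).Normal).conj_mem x hx a
  -- the prime
  have hg1 : orderOf (φ g) ≠ 1 := fun h => hgK ((hφ g).1 (orderOf_eq_one_iff.1 h))
  obtain ⟨s, hsp, hsd⟩ := Nat.exists_prime_and_dvd hg1
  haveI := Fact.mk hsp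
  have hpow : ∀ x ∈ M, x ^ s ∈ K := by
    have hog : orderOf (φ g) = s := by
      have hy : orderOf (φ (g ^ (orderOf (φ g) / s))) = s := by
        rw [map_pow, orderOf_pow_orderOf_div (orderOf_pos _).ne' hsd]
      have hyK : g ^ (orderOf (φ g) / s) ∉ K := fun h => by
        rw [(hφ _).2 h, orderOf_one] at hy
        exact hsp.one_lt.ne hy
      obtain ⟨a, ha⟩ := isConj_iff.1 (hclass _ (M.pow_mem hgM _) hyK)
      rw [← ha, map_mul, map_mul, map_inv] at hy
      rw [← hy]
      exact (orderOf_injective (MulAut.conj (φ a)).toMonoidHom (MulAut.conj (φ a)).injective _).symm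
    intro x hx
    by_cases hxK : x ∈ K
    · exact K.pow_mem hxK s
    obtain ⟨a, rfl⟩ := isConj_iff.1 (hclass x hx hxK)
    rw [← hφ, map_pow, map_mul, map_mul, map_inv, conj_pow, ← hog, pow_orderOf_eq_one]
    simp
  have hab : ∀ a ∈ M, ∀ b ∈ M, φ a * φ b = φ b * φ a := by
    set Mq := M.map φ with hMq
    have hp : IsPGroup s Mq := by
      rintro ⟨_, x, hx, rfl⟩
      exact ⟨1, Subtype.ext (by
        rw [pow_one, SubmonoidClass.coe_pow, ← map_pow]
        exact (hφ _).2 (hpow x hx))⟩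
    haveI : Nontrivial Mq := ⟨⟨⟨φ g, g, hgM, rfl⟩, 1, fun h =>
      hgK ((hφ g).1 (congrArg Subtype.val h))⟩⟩
    haveI := hp.center_nontrivial
    obtain ⟨⟨⟨_, z, hz, rfl⟩, hzc⟩, hz1⟩ := exists_ne (1 : Subgroup.center Mq)
    have hzK : z ∉ K := fun h => hz1 (Subtype.ext (Subtype.ext ((hφ z).2 h)))
    intro a ha b hb
    by_cases haK : a ∈ K
    · rw [(hφ a).2 haK, one_mul, mul_one]
    obtain ⟨t, ht⟩ := isConj_iff.1 ((hclass z hz hzK).symm.trans (hclass a ha haK))
    have h1 := congrArg Subtype.val (Subgroup.mem_center_iff.1 hzc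
      ⟨φ (t⁻¹ * b * t), _, (by simpa using hconjM t⁻¹ b hb), rfl⟩)
    simp only [Subgroup.coe_mul] at h1
    rw [← map_mul, ← map_mul, hφeq] at h1
    rw [← map_mul, ← map_mul, hφeq, ← ht]
    have := (inferInstance : K.Normal).conj_mem _ (K.inv_mem h1) t
    convert this using 1
    group
  -- the centralizer of `M / K`
  set C : Subgroup G := (Subgroup.centralizer ((M.map φ : Subgroup (G ⧸ K)) : Set (G ⧸ K))).comap φ
    with hC
  have hmemC : ∀ c, c ∈ C ↔ ∀ x ∈ M, φ x * φ c = φ c * φ x := fun c => by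
    rw [hC, Subgroup.mem_comap, Subgroup.mem_centralizer_iff]
    exact ⟨fun h x hx => h _ ⟨x, hx, rfl⟩, by rintro h _ ⟨x, hx, rfl⟩; exact h x hx⟩
  have hMC : M ≤ C := fun c hc => (hmemC c).2 fun x hx => hab x hx c hc
  have hKC : K ≤ C := hKM.trans hMC
  haveI hCn : C.Normal := Subgroup.Normal.of_commutator_le G hMC
  -- fixing one point of `M / K` is centralising it
  have hfix : ∀ c, ∀ x ∈ M, x ∉ K → c * x * c⁻¹ * x⁻¹ ∈ K → c ∈ C := by
    intro c x hx hxK hcx
    have hcx' : φ c * φ x = φ x * φ c := by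
      rw [← map_mul, ← map_mul, hφeq]; convert hcx using 1; group
    rw [hmemC]
    intro y hy
    by_cases hyK : y ∈ K
    · rw [(hφ y).2 hyK, one_mul, mul_one]
    obtain ⟨a, rfl⟩ := isConj_iff.1 ((hclass x hx hxK).symm.trans (hclass y hy hyK))
    have hm := hab ⁅c, a⁆ (Subgroup.commutator_mem_commutator (Subgroup.mem_top c) (Subgroup.mem_top a))
      (a * x * a⁻¹) hy
    have e : φ c * φ a = φ ⁅c, a⁆ * (φ a * φ c) := by
      simp only [← map_mul]; congr 1; simp only [commutatorElement_def]; group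
    simp only [map_mul, map_inv] at hm ⊢
    symm
    calc φ c * (φ a * φ x * (φ a)⁻¹) = φ c * φ a * φ x * (φ a)⁻¹ := by group
      _ = φ ⁅c, a⁆ * (φ a * (φ c * φ x) * (φ a)⁻¹) := by rw [e]; group
      _ = φ ⁅c, a⁆ * (φ a * φ x * (φ a)⁻¹) * (φ a * φ c * (φ a)⁻¹) := by rw [hcx']; group
      _ = φ a * φ x * (φ a)⁻¹ * (φ ⁅c, a⁆ * (φ a * φ c * (φ a)⁻¹)) := by rw [hm]; group
      _ = φ a * φ x * (φ a)⁻¹ * φ c := by
        simp only [← map_mul, ← map_inv]; congr 2; simp only [commutatorElement_def]; group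
  have hin : ∀ x ∈ M, ∀ c ∈ C, c * x * c⁻¹ * x⁻¹ ∈ K := fun x hx c hc => by
    have := (hmemC c).1 hc x hx
    rw [← map_mul, ← map_mul, eq_comm, hφeq] at this
    convert this using 1
    group
  have hsurj : ∀ x ∈ M, x ∉ K → ∀ k ∈ K, ∃ c ∈ C, c * x * c⁻¹ = k * x := by
    intro x hx hxK k hk
    have hkx : k * x ∉ K := fun h => hxK (by simpa using K.mul_mem (K.inv_mem hk) h)
    obtain ⟨a, ha⟩ := isConj_iff.1 ((hclass x hx hxK).symm.trans
      (hclass _ (M.mul_mem (hKM hk) hx) hkx))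
    refine ⟨a, hfix a x hx hxK ?_, ha⟩
    rw [ha]
    simpa using hk
  -- `C / K` is an `s`-group, and `C = M` for odd `s`
  have hdich : (∀ c ∈ C, c ∈ M) ∨ (s = 2 ∧ ∀ c : G, c ^ 4 ∈ K) := by
    by_cases htop : C = ⊤
    · right
      have hcen : ∀ x ∈ M, ∀ y, φ x * φ y = φ y * φ x := fun x hx y =>
        (hmemC y).1 (htop ▸ Subgroup.mem_top y) x hx
      have hone : ∀ x ∈ M, x ∉ K → φ x = φ g := fun x hx hxK => by
        obtain ⟨a, rfl⟩ := isConj_iff.1 (hclass x hx hxK)
        rw [map_mul, map_mul, map_inv, ← hcen g hgM a, mul_inv_cancel_right]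
      have hg2 : g ^ 2 ∈ K := by
        by_contra h
        have h1 := hone _ (M.pow_mem hgM 2) h
        rw [pow_two, map_mul, mul_eq_left] at h1
        exact hgK ((hφ g).1 h1)
      have hs2 : s = 2 := by
        have h1 : orderOf (φ g) ∣ 2 := orderOf_dvd_of_pow_eq_one (by rw [← map_pow]; exact (hφ _).2 hg2)
        exact ((Nat.prime_dvd_prime_iff_eq hsp Nat.prime_two).1 (hsd.trans h1))
      refine ⟨hs2, fun c => ?_⟩
      have h2 : c ^ 2 ∈ M := by
        refine hcent _ fun y => ?_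
        have hy := Subgroup.commutator_mem_commutator (H₁ := (⊤ : Subgroup G)) (H₂ := (⊤ : Subgroup G))
          (Subgroup.mem_top c) (Subgroup.mem_top y)
        rw [← hφ, show ⁅c ^ 2, y⁆ = c * ⁅c, y⁆ * c⁻¹ * ⁅c, y⁆ by
          rw [pow_two]; simp only [commutatorElement_def]; group]
        rw [map_mul, map_mul, map_mul, map_inv, ← hcen _ hy c, mul_inv_cancel_right, ← pow_two,
          ← map_pow]
        have h3 := hpow _ hy
        rw [hs2] at h3
        exact (hφ _).2 h3
      have h3 := hpow _ h2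
      rwa [hs2, ← pow_mul] at h3
    · left
      obtain ⟨n, hn⟩ : ∃ n, n ∉ C := by
        by_contra h
        push Not at h
        exact htop (eq_top_iff.2 fun x _ => h x)
      have hnfix : ∀ x ∈ M, φ n * φ x = φ x * φ n → x ∈ K := by
        intro x hx h
        by_contra hxK
        refine hn (hfix n x hx hxK ?_)
        rw [← hφ, map_mul, map_mul, map_mul, map_inv, map_inv, h]
        group
      have hcomm : ∀ a b : G, ⁅a, b⁆ ∈ M := fun a b =>
        Subgroup.commutator_mem_commutator (Subgroup.mem_top a) (Subgroup.mem_top b)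
      have hCab : ∀ a ∈ C, ∀ b ∈ C, φ ⁅a, b⁆ = 1 := by
        intro a ha b hb
        refine (hφ _).2 (hnfix _ (hcomm a b) ?_)
        have hm1 := hcomm n a
        have hm2 := hcomm n b
        have e : φ n * φ ⁅a, b⁆ * (φ n)⁻¹ = ⁅φ ⁅n, a⁆ * φ a, φ ⁅n, b⁆ * φ b⁆ := by
          rw [← map_inv, ← map_mul, ← map_mul, ← map_mul, ← map_mul, ← map_commutatorElement]
          congr 1
          simp only [commutatorElement_def]; group
        have c1 : φ ⁅n, a⁆ * φ b = φ b * φ ⁅n, a⁆ := (hmemC b).1 hb _ hm1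
        have c2 : φ ⁅n, b⁆ * φ a = φ a * φ ⁅n, b⁆ := (hmemC a).1 ha _ hm2
        have c3 : φ ⁅n, a⁆ * φ ⁅n, b⁆ = φ ⁅n, b⁆ * φ ⁅n, a⁆ := hab _ hm1 _ hm2
        have e2 : ⁅φ ⁅n, a⁆ * φ a, φ ⁅n, b⁆ * φ b⁆ = φ ⁅a, b⁆ := by
          have k1 : Commute (φ ⁅n, a⁆) (φ ⁅n, b⁆ * φ b) := Commute.mul_right c3 c1
          have k2 : Commute (φ a) (φ ⁅n, b⁆) := c2.symm
          rw [map_commutatorElement φ a b, commutatorElement_def, commutatorElement_def, mul_inv_rev,
            mul_inv_rev]
          calc φ ⁅n, a⁆ * φ a * (φ ⁅n, b⁆ * φ b) * ((φ a)⁻¹ * (φ ⁅n, a⁆)⁻¹) *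
                ((φ b)⁻¹ * (φ ⁅n, b⁆)⁻¹)
              = φ ⁅n, a⁆ * ((φ a * φ ⁅n, b⁆) * φ b * (φ a)⁻¹) * (φ ⁅n, a⁆)⁻¹ *
                ((φ b)⁻¹ * (φ ⁅n, b⁆)⁻¹) := by group
            _ = (φ ⁅n, a⁆ * φ ⁅n, b⁆) * (φ a * φ b * (φ a)⁻¹ * (φ b)⁻¹) * φ b * (φ ⁅n, a⁆)⁻¹ *
                ((φ b)⁻¹ * (φ ⁅n, b⁆)⁻¹) := by rw [k2.eq]; group
            _ = φ ⁅n, a⁆ * φ ⁅n, b⁆ * φ ⁅a, b⁆ * (φ b * (φ ⁅n, a⁆)⁻¹ * (φ b)⁻¹) *
                (φ ⁅n, b⁆)⁻¹ := by simp only [map_mul, map_inv, commutatorElement_def]; group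
            _ = φ ⁅n, b⁆ * (φ ⁅n, a⁆ * φ ⁅a, b⁆ * (φ ⁅n, a⁆)⁻¹) * (φ ⁅n, b⁆)⁻¹ := by
                rw [show φ b * (φ ⁅n, a⁆)⁻¹ * (φ b)⁻¹ = (φ ⁅n, a⁆)⁻¹ from
                  by rw [(Commute.inv_left c1).eq.symm, mul_inv_cancel_right], c3]; group
            _ = φ a * φ b * (φ a)⁻¹ * (φ b)⁻¹ := by
                rw [hab _ hm1 _ (hcomm a b), mul_inv_cancel_right, hab _ hm2 _ (hcomm a b),
                  mul_inv_cancel_right]
                simp [commutatorElement_def]
        rw [e2] at e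
        exact mul_inv_eq_iff_eq_mul.1 e
      have hnz : ∀ z ∈ C, φ n * φ z = φ z * φ n → z ∈ M := by
        intro z hz hzn
        refine hcent z fun h => hnfix _ (hcomm z h) ?_
        have hm : ⁅n, h⁆ ∈ M := hcomm n h
        have hzm : φ ⁅n, h⁆ * φ z = φ z * φ ⁅n, h⁆ := (hmemC z).1 hz _ hm
        have hzm' := hab _ hm _ (hcomm z h)
        rw [map_commutatorElement φ n h] at hzm hzm'
        rw [map_commutatorElement φ z h] at hzm' ⊢
        set N' := φ n; set Z' := φ z; set H' := φ h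
        have e1 : N' * ⁅Z', H'⁆ * N'⁻¹ = ⁅Z', ⁅N', H'⁆ * H'⁆ := by
          have : N' * Z' * N'⁻¹ = Z' := by rw [hzn, mul_inv_cancel_right]
          calc N' * ⁅Z', H'⁆ * N'⁻¹ = ⁅N' * Z' * N'⁻¹, N' * H' * N'⁻¹⁆ :=
                conjugate_commutatorElement _ _ _
            _ = _ := by
              rw [this]; congr 1; simp only [commutatorElement_def]; group
        have e2 : ⁅Z', ⁅N', H'⁆ * H'⁆ = ⁅Z', H'⁆ := by
          calc ⁅Z', ⁅N', H'⁆ * H'⁆ = ⁅Z', ⁅N', H'⁆⁆ * (⁅N', H'⁆ * ⁅Z', H'⁆ * ⁅N', H'⁆⁻¹) := by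
                simp only [commutatorElement_def]; group
            _ = ⁅Z', H'⁆ := by
              rw [commutatorElement_eq_one_iff_mul_comm.2 hzm.symm, one_mul, hzm', mul_inv_cancel_right]
        exact mul_inv_eq_iff_eq_mul.1 (e1.trans e2)
      -- the hom `z ↦ [n, z]` from `C / K` to `M / K`
      let f : C →* M.map φ := MonoidHom.mk' (fun z => ⟨φ ⁅n, (z : G)⁆, _, hcomm n z, rfl⟩)
        fun z w => Subtype.ext (by
          show φ ⁅n, (z : G) * w⁆ = φ ⁅n, (z : G)⁆ * φ ⁅n, (w : G)⁆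
          have h1 : φ ⁅n, (w : G)⁆ * φ (z : G) = φ (z : G) * φ ⁅n, (w : G)⁆ :=
            (hmemC z).1 z.2 _ (hcomm n w)
          rw [show ⁅n, (z : G) * w⁆ = ⁅n, (z : G)⁆ * ((z : G) * ⁅n, (w : G)⁆ * (z : G)⁻¹) by
            simp only [commutatorElement_def]; group]
          rw [map_mul, map_mul, map_mul, map_inv, ← h1, mul_inv_cancel_right])
      have hker : f.ker ≤ K.subgroupOf C := by
        intro z hz
        have h1 : φ ⁅n, (z : G)⁆ = 1 := congrArg Subtype.val (MonoidHom.mem_ker.1 hz)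
        have h2 : φ n * φ (z : G) = φ (z : G) * φ n := by
          rwa [map_commutatorElement, commutatorElement_eq_one_iff_mul_comm] at h1
        exact hnfix _ (hnz z z.2 h2) h2
      have hle : Nat.card C ≤ Nat.card M := by
        have h1 := Subgroup.card_eq_card_quotient_mul_card_subgroup f.ker
        rw [Nat.card_congr (QuotientGroup.quotientKerEquivRange f).toEquiv] at h1
        have h2 := Subgroup.card_eq_card_quotient_mul_card_subgroup
          ((φ.comp M.subtype).ker)
        rw [Nat.card_congr (QuotientGroup.quotientKerEquivRange _).toEquiv] at h2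
        have h3 : (φ.comp M.subtype).range = M.map φ := by
          rw [MonoidHom.range_comp, Subgroup.range_subtype]
        have h4 : Nat.card (φ.comp M.subtype).ker = Nat.card K := by
          rw [show (φ.comp M.subtype).ker = K.subgroupOf M from by
            rw [← MonoidHom.comap_ker, hφdef, QuotientGroup.ker_mk']; rfl]
          exact Nat.card_congr (Subgroup.subgroupOfEquivOfLe hKM).toEquiv
        have h5 : Nat.card f.ker ≤ Nat.card K :=
          (Subgroup.card_le_of_le hker).trans_eq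
            (Nat.card_congr (Subgroup.subgroupOfEquivOfLe hKC).toEquiv)
        rw [h3, h4] at h2
        rw [h1, h2]
        exact Nat.mul_le_mul (Nat.le_of_dvd Nat.card_pos (Subgroup.card_subgroup_dvd_card _)) h5
      intro c hc
      rwa [Subgroup.eq_of_le_of_card_ge hMC hle]
  have hCs : ∀ c ∈ C, ∃ e, c ^ s ^ e ∈ K := by
    intro c hc
    rcases hdich with h | ⟨rfl, h⟩
    · exact ⟨1, by rw [pow_one]; exact hpow c (h c hc)⟩
    · exact ⟨2, by simpa using h c⟩
  -- `g` is an `s`-element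
  have hgs : IsPGroup s (Subgroup.zpowers g) := by
    obtain ⟨a, r, hr, hord⟩ := Nat.exists_eq_pow_mul_and_not_dvd (orderOf_pos g).ne' s hsp.ne_one
    have hgr : g ^ r ∉ K := fun h => by
      refine hgK ?_
      have h1 := pow_gcd_eq_one.2 ⟨show φ g ^ r = 1 by rw [← map_pow]; exact (hφ _).2 h,
        show φ g ^ s = 1 by rw [← map_pow]; exact (hφ _).2 (hpow g hgM)⟩
      rw [((hsp.coprime_iff_not_dvd.2 hr).symm).gcd_eq_one, pow_one] at h1
      exact (hφ g).1 h1
    obtain ⟨t, ht⟩ := isConj_iff.1 (hclass _ (M.pow_mem hgM r) hgr)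
    have h2 : orderOf (g ^ r) = orderOf g := by
      rw [← ht]
      exact orderOf_injective (MulAut.conj t).toMonoidHom (MulAut.conj t).injective g
    rw [orderOf_pow' g (fun h0 : r = 0 => hr (h0 ▸ dvd_zero s))] at h2
    have h3 : Nat.gcd (orderOf g) r = 1 :=
      (Nat.div_eq_self.1 h2).resolve_left (orderOf_pos g).ne'
    have hr1 : r = 1 := Nat.eq_one_of_dvd_one (h3 ▸ Nat.dvd_gcd (hord ▸ dvd_mul_left r _) dvd_rfl)
    exact IsPGroup.of_card (n := a) (by rw [Nat.card_zpowers, hord, hr1, mul_one])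
  have hgC : g ∈ C := hMC hgM
  haveI : (K.subgroupOf C).Normal := Subgroup.Normal.subgroupOf inferInstance C
  have hquot : IsPGroup s (C ⧸ K.subgroupOf C) := by
    intro q
    obtain ⟨c, rfl⟩ := QuotientGroup.mk_surjective q
    obtain ⟨e, he⟩ := hCs c c.2
    refine ⟨e, ?_⟩
    rw [← QuotientGroup.mk_pow, QuotientGroup.eq_one_iff, Subgroup.mem_subgroupOf]
    simpa using he
  -- the Sylow subgroup
  obtain ⟨S, hS⟩ := (hgs.comap_subtype (K := C)).exists_le_sylow
  set P : Subgroup G := (S : Subgroup C).map C.subtype with hPdef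
  have hPC : P ≤ C := Subgroup.map_subtype_le _
  have hgP : g ∈ P := ⟨⟨g, hgC⟩, hS (Subgroup.mem_subgroupOf.2 (Subgroup.mem_zpowers g)), rfl⟩
  have hSsup : (S : Subgroup C) ⊔ K.subgroupOf C = ⊤ := by
    obtain ⟨e, he⟩ := IsPGroup.iff_card.1 hquot
    have h1 : ((S : Subgroup C) ⊔ K.subgroupOf C).index ∣ s ^ e := by
      rw [← he, ← Subgroup.index_eq_card]
      exact Subgroup.index_dvd_of_le le_sup_right
    have h2 : ((S : Subgroup C) ⊔ K.subgroupOf C).index ∣ (S : Subgroup C).index :=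
      Subgroup.index_dvd_of_le le_sup_left
    exact Subgroup.index_eq_one.1 (Nat.eq_one_of_dvd_coprimes
      ((hsp.coprime_iff_not_dvd.2 S.not_dvd_index).pow_left e) h1 h2)
  have hPcard : Nat.card P * Nat.card K = Nat.card C * Nat.card (P ⊓ K : Subgroup G) := by
    let π := (QuotientGroup.mk' (K.subgroupOf C)).comp (S : Subgroup C).subtype
    have hπs : π.range = ⊤ := by
      rw [MonoidHom.range_comp, Subgroup.range_subtype]
      have := congrArg (Subgroup.map (QuotientGroup.mk' (K.subgroupOf C))) hSsup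
      rwa [Subgroup.map_sup, QuotientGroup.map_mk'_self, sup_bot_eq,
        Subgroup.map_top_of_surjective _ (QuotientGroup.mk'_surjective _)] at this
    have h1 := Subgroup.card_eq_card_quotient_mul_card_subgroup π.ker
    rw [Nat.card_congr (QuotientGroup.quotientKerEquivRange π).toEquiv, hπs, Subgroup.card_top] at h1
    have h2 := Subgroup.card_eq_card_quotient_mul_card_subgroup (K.subgroupOf C)
    rw [Nat.card_congr (Subgroup.subgroupOfEquivOfLe hKC).toEquiv] at h2
    have h3 : Nat.card π.ker = Nat.card (P ⊓ K : Subgroup G) := by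
      rw [show π.ker = (K.subgroupOf C).subgroupOf (S : Subgroup C) from by
          rw [← MonoidHom.comap_ker, QuotientGroup.ker_mk']; rfl,
        ← Subgroup.card_map_of_injective ((C.subtype.comp (S : Subgroup C).subtype).ker_eq_bot_iff.1
          (by rw [MonoidHom.ker_eq_bot_iff]; exact C.subtype_injective.comp (S : Subgroup C).subtype_injective)),
        ← Subgroup.map_map]
      congr 2
      rw [Subgroup.subgroupOf_map_subtype, Subgroup.map_inf _ _ _ C.subtype_injective,
        Subgroup.subgroupOf_map_subtype, inf_comm, ← hPdef, ← inf_assoc, inf_eq_left.2]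
      exact (inf_le_left).trans hPC
    have h4 : Nat.card P = Nat.card (S : Subgroup C) :=
      Subgroup.card_map_of_injective C.subtype_injective
    rw [h4, h1, h2, h3]
    ring
  have hcls : ∀ x ∈ P, x ∈ M → x ∉ K → ∀ d ∈ P ⊓ K, ∃ u ∈ P, u * x * u⁻¹ = d * x :=
    fun x hxP hx hxK => sylow_class hKC hPC hxP (hsurj x hx hxK) (hin x hx) hPcard
  have hDle : P ⊓ K ≤ ⁅P, P⁆ := fun d hd => by
    obtain ⟨u, hu, hud⟩ := hcls g hgP hgM hgK d hd
    rw [show d = ⁅u, g⁆ by rw [commutatorElement_def, hud, mul_inv_cancel_right]]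
    exact Subgroup.commutator_mem_commutator hu hgP
  -- the normal `s`-complement
  set H := Cfsg.pResidual s C with hHdef
  have hHK : H ≤ K.subgroupOf C := Fusion.pResidual_le_of_quotient hquot
  have hHS : H.subgroupOf (S : Subgroup C) = ⊥ := by
    rw [Fusion.tate S.not_dvd_index fun L hLn hLi => ?_]
    · rw [eq_bot_iff, Fusion.pResidual_le]
      intro x hx
      obtain ⟨k, hk⟩ := IsPGroup.iff_orderOf.1 S.isPGroup' x
      rw [Subgroup.mem_bot, ← orderOf_eq_one_iff, hk]
      rcases k with _ | k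
      · rfl
      · rw [hk] at hx
        exact absurd ((Nat.coprime_pow_left_iff (Nat.succ_pos k) s s).1 hx)
          (by simp [hsp.ne_one])
    · intro x hx
      have hxK : ((x : C) : G) ∈ P ⊓ K := ⟨⟨x, x.2, rfl⟩, hHK hx⟩
      have hxc : x ∈ commutator (S : Subgroup C) := by
        have h1 : ((x : C) : G) ∈ ((commutator (S : Subgroup C)).map (S : Subgroup C).subtype).map C.subtype := by
          rw [Subgroup.map_subtype_commutator, Subgroup.map_commutator, ← hPdef]
          exact hDle hxK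
        obtain ⟨y, ⟨z, hz, rfl⟩, hzy⟩ := h1
        exact (Subtype.ext (Subtype.ext hzy) : z = x) ▸ hz
      haveI := hLn
      haveI : IsCyclic ((S : Subgroup C) ⧸ L) :=
        isCyclic_of_prime_card (p := s) (by rw [← Subgroup.index_eq_card, hLi])
      exact Subgroup.Normal.quotient_commutative_iff_commutator_le.1
        ⟨⟨fun a b => IsCyclic.commGroup.mul_comm a b⟩⟩ hxc
  have hHcop : (Nat.card H).Coprime s := by
    rw [Nat.coprime_comm, hsp.coprime_iff_not_dvd]
    intro hdvd
    obtain ⟨h, hh⟩ := exists_prime_orderOf_dvd_card' (G := H) s hdvd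
    have hh' : IsPGroup s (Subgroup.zpowers (h : C)) :=
      IsPGroup.of_card (n := 1) (by rw [Nat.card_zpowers, Subgroup.orderOf_coe, hh, pow_one])
    obtain ⟨S', hS'⟩ := hh'.exists_le_sylow
    obtain ⟨c, hc⟩ := MulAction.exists_smul_eq C S S'
    have h1 : (h : C) ∈ ((MulAut.conj c) • (S : Subgroup C) : Subgroup C) := by
      rw [← hc] at hS'
      exact hS' (Subgroup.mem_zpowers _)
    rw [Subgroup.mem_pointwise_smul_iff_inv_smul_mem] at h1
    have h2 : (c⁻¹ * (h : C) * c) ∈ H := by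
      simpa using (inferInstance : H.Normal).conj_mem _ h.2 c⁻¹
    have h3 : (c⁻¹ * (h : C) * c) ∈ (S : Subgroup C) := by simpa [MulAut.inv_def] using h1
    have h4 : (⟨_, h3⟩ : (S : Subgroup C)) ∈ H.subgroupOf (S : Subgroup C) := h2
    rw [hHS, Subgroup.mem_bot] at h4
    have h5 : (h : C) = 1 := by
      have := congrArg Subtype.val h4
      simp only [OneMemClass.coe_one] at this
      rw [show (h : C) = c * (c⁻¹ * (h : C) * c) * c⁻¹ by group, this]
      group
    rw [← Subgroup.orderOf_coe, h5, orderOf_one] at hh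
    exact hsp.one_lt.ne hh
  haveI : Group.IsNilpotent (C ⧸ H) := (Fusion.isPGroup_quotient_pResidual (G := C) (p := s)).isNilpotent
  haveI hHsol : Group.IsSolvable H := by
    by_cases hs2 : s = 2
    · subst hs2
      exact Cfsg.Agent.S0205.result (Nat.coprime_two_right.1 hHcop)
    have h3 : 3 ≤ s := by have := hsp.two_le; omega
    have hCM : C = M := le_antisymm (hdich.resolve_right fun h => hs2 h.1) hMC
    have hPK : ⁅P, P⁆ = P ⊓ K := by
      refine le_antisymm (le_inf (commutator_le_self P) (Subgroup.commutator_le.2 fun a ha b hb => ?_)) hDle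
      rw [← hφ, map_commutatorElement, commutatorElement_eq_one_iff_mul_comm]
      exact hab a (hCM ▸ hPC ha) b (hCM ▸ hPC hb)
    have hPD : ∀ x ∈ P, x ∉ ⁅P, P⁆ → x ∉ K := fun x hx h hk => h (hPK ▸ ⟨hx, hk⟩)
    set N := Subgroup.normalizer (P : Set G) with hN
    have hPN : P ≤ N := Subgroup.le_normalizer
    set P₀ := P.subgroupOf N with hP₀
    have hP₀map : P₀.map N.subtype = P := Subgroup.map_subgroupOf_eq_of_le hPN
    have hD₀ : ∀ x : N, x ∈ ⁅P₀, P₀⁆ ↔ (x : G) ∈ P ⊓ K := fun x => by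
      rw [← hPK, ← hP₀map, ← Subgroup.map_commutator]
      exact (Subgroup.mem_map_iff_mem N.subtype_injective).symm
    have hfr : Subgroup.normalizer (P : Set G) ⊔ C = ⊤ := Sylow.normalizer_sup_eq_top S
    have hHyp : Hyp s P₀ := by
      constructor
      · exact Subgroup.normal_in_normalizer
      · exact (S.isPGroup'.map C.subtype).comap_subtype
      · intro x hx
        rw [hD₀, SubmonoidClass.coe_pow]
        exact ⟨P.pow_mem hx s, hpow _ (hCM ▸ hPC hx)⟩
      · intro a b x hx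
        rw [hD₀]
        have hab' : (⁅(a : G), (b : G)⁆) ∈ M :=
          Subgroup.commutator_mem_commutator (Subgroup.mem_top _) (Subgroup.mem_top _)
        refine ⟨?_, ?_⟩
        · have := (⁅a, b⁆ * x * ⁅a, b⁆⁻¹ * x⁻¹).2
          exact P₀.mul_mem ((Subgroup.normal_in_normalizer (H := P)).conj_mem x hx ⁅a, b⁆) (P₀.inv_mem hx)
        · show ((⁅a, b⁆ : N) : G) * (x : G) * ((⁅a, b⁆ : N) : G)⁻¹ * (x : G)⁻¹ ∈ K
          rw [show ((⁅a, b⁆ : N) : G) = ⁅(a : G), (b : G)⁆ from map_commutatorElement N.subtype a b]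
          exact hin _ (hCM ▸ hPC hx) _ (hMC hab')
      · intro x hx hxD y hy hyD
        rw [hD₀] at hxD hyD
        have hxK : (x : G) ∉ K := fun h => hxD ⟨hx, h⟩
        have hyK : (y : G) ∉ K := fun h => hyD ⟨hy, h⟩
        obtain ⟨a, ha⟩ := isConj_iff.1 ((hclass _ (hCM ▸ hPC hx) hxK).symm.trans
          (hclass _ (hCM ▸ hPC hy) hyK))
        have hat : a ∈ C ⊔ N := by rw [sup_comm, hN, hfr]; exact Subgroup.mem_top _
        rw [← SetLike.mem_coe, Subgroup.normal_mul] at hat
        obtain ⟨c, hc, n, hn, rfl⟩ := hat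
        refine ⟨⟨n, hn⟩, (hD₀ _).2 ⟨?_, ?_⟩⟩
        · exact P.mul_mem ((Subgroup.mem_normalizer_iff.1 hn _).1 hx) (P.inv_mem hy)
        · have hw := (inferInstance : (commutator G).Normal).conj_mem _ (hCM ▸ hPC hx) n
          have h1 := hin _ hw c hc
          simp only [Subgroup.coe_subtype] at h1 ha
          rw [show c * (n * (x : G) * n⁻¹) * c⁻¹ = (y : G) by rw [← ha]; group] at h1
          have h2 := K.inv_mem h1
          rw [mul_inv_rev, inv_inv] at h2
          exact h2
      · intro x hx hxD d hd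
        rw [hD₀] at hxD hd
        obtain ⟨u, hu, hud⟩ := hcls _ hx (hCM ▸ hPC hx) (fun h => hxD ⟨hx, h⟩) _ hd
        exact ⟨⟨u, hPN hu⟩, hu, Subtype.ext hud⟩
    have hgord : g ^ s = 1 := by
      have := pow_eq_one hHyp h3 (x := ⟨g, hPN hgP⟩) hgP (by rw [hD₀]; exact fun h => hgK h.2)
      simpa using congrArg Subtype.val this
    set g₀ : C := ⟨g, hgC⟩ with hg₀
    haveI : Group.IsNilpotent H := by
      refine Frobenius.isNilpotent_of_fpf (Nat.card H) hsp H (MulAut.conjNormal g₀) rfl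
        (fun h hh => ?_) fun h => ?_
      · have h1 : g₀ * (h : C) * g₀⁻¹ = h := by
          have := congrArg Subtype.val hh
          rwa [MulAut.conjNormal_apply] at this
        have h2 : g * ((h : C) : G) = ((h : C) : G) * g := by
          have := congrArg Subtype.val h1
          exact mul_inv_eq_iff_eq_mul.1 this
        have h3 : orderOf ((h : C) : G) ∣
            Nat.card (Subgroup.centralizer ({g} : Set G) ⊓ C : Subgroup G) :=
          Subgroup.orderOf_dvd_natCard _ ⟨Subgroup.mem_centralizer_singleton_iff.2 h2.symm, (h : C).2⟩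
        obtain ⟨e, he⟩ := IsPGroup.iff_card.1 hquot
        have h4 : Nat.card (Subgroup.centralizer ({g} : Set G) ⊓ C : Subgroup G) = s ^ e := by
          have h5 := card_centralizer_eq hKC (hsurj g hgM hgK) (hin g hgM)
          have h6 := Subgroup.card_eq_card_quotient_mul_card_subgroup (K.subgroupOf C)
          rw [Nat.card_congr (Subgroup.subgroupOfEquivOfLe hKC).toEquiv, he, ← h5] at h6
          exact Nat.eq_of_mul_eq_mul_right Nat.card_pos h6
        rw [h4, Subgroup.orderOf_coe, Subgroup.orderOf_coe] at h3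
        exact orderOf_eq_one_iff.1 (Nat.eq_one_of_dvd_coprimes
          (hHcop.symm.pow_left e) h3 (orderOf_dvd_natCard h))
      · have h1 : (MulAut.conjNormal (H := H) g₀) ^ s = 1 := by
          rw [← map_pow, show g₀ ^ s = 1 from Subtype.ext (by simpa using hgord), map_one]
        have h2 := DFunLike.congr_fun h1 h
        rw [MulAut.one_apply] at h2
        refine Eq.trans ?_ h2
        have key : ∀ (f : MulAut H) (j : ℕ), f^[j] h = (f ^ j) h := fun f j => by
          induction j with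
          | zero => rfl
          | succ j ih => rw [Function.iterate_succ_apply', ih, pow_succ', MulAut.mul_apply]
        exact key _ s
    infer_instance
  haveI : Group.IsSolvable (C ⧸ H) := inferInstance
  haveI : Group.IsSolvable C := Group.isSolvable_of_ker_le_range H.subtype (QuotientGroup.mk' H) (by simp)
  haveI : Group.IsSolvable (G ⧸ C) := by
    haveI : IsMulCommutative (G ⧸ C) := Subgroup.Normal.quotient_commutative_iff_commutator_le.2 hMC
    exact Group.isSolvable_of_comm fun a b => IsMulCommutative.is_comm.comm a b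
  exact Group.isSolvable_of_ker_le_range C.subtype (QuotientGroup.mk' C) (by simp)

end Cfsg.Agent.H10.Camina
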